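import Groth.Agent.Lib.ARSys.Quot

/-!
# Strict systems that are adic up to translation: quotients of translates
-/

set_option autoImplicit false

universe w v u

open CategoryTheory CategoryTheory.Limits Opposite

namespace Groth.Agent.AR

open ARSys

variable {C : Type u} [Category.{v} C] [Abelian C] {A : Type w} [CommRing A] [Linear A C]
  {J : Ideal A}

/-- If `Y_n` is the quotient of `X_{n+r}` modulo `J^{n+1}` and `Y` is adic, then `X` is adic up to
translation. -/
theorem isARAdic_of_quot_shift {X Y : PS C} (kX : TermKilled J X) {r : ℕ}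
    (q : ∀ n, X.obj (op (n + r)) ⟶ Y.obj (op n)) (hq : ∀ n, IsQuot (J ^ (n + 1)) (q n))
    (hnat : ∀ {n m : ℕ} (h : n ≤ m),
      tr X (Nat.add_le_add_right h r) ≫ q n = q m ≫ tr Y h)
    (hY : IsAdic J Y) : IsARAdic J X := by
  have key := fun n => (hq n).2 (X.obj (op n)) (tr X (Nat.le_add_right n r))
    (smul_eq_zero_of_killed_target (kX n) _)
  choose g hg _ using key
  let u : Y ⟶ X := mkHom g fun {n m} h => by
    have := isQuot_epi (hq m)
    rw [← cancel_epi (q m), ← Category.assoc, ← hnat, Category.assoc, hg n, reassoc_of% (hg m),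
      tr_tr, tr_tr]
  refine ⟨kX, Y, u, hY, isARIso_of_pinv (r := r)
    { w := fun n m h => tr X h ≫ q n, nat := ?_, w_u := ?_, u_w := ?_ }⟩
  · intro n n' m m' h h' hn hm
    rw [tr_tr_assoc, Category.assoc, ← hnat, tr_tr_assoc]
  · intro n m h
    rw [Category.assoc, show q n ≫ u.app (op n) = tr X _ from hg n, tr_tr]
  · intro n m h
    have := isQuot_epi (hq m)
    rw [← cancel_epi (q m), show q m ≫ u.app (op m) ≫ _ = tr X _ ≫ _ from (reassoc_of% (hg m)) _,
      tr_tr_assoc]
    exact hnat _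

/-- The quotients of `X_{n+r}` modulo `J^{n+1}` of a strict system with small kernels form an
adic system. -/
theorem exists_adic_quot_shift (hJ : J.FG ∨ HasCoproducts.{w} C) {X : PS C} (hX : IsStrict X)
    {r : ℕ} (hF : ∀ n, SubLEIdeal (J ^ (n - r)) (Fker X n)) :
    ∃ (Y : PS C) (q : (shift C r).obj X ⟶ Y),
      (∀ n : ℕ, IsQuot (J ^ (n + 1)) (q.app (op n))) ∧ IsAdic J Y := by
  have key := fun n => exists_isQuot (pow_hJ hJ (n + 1)) (X.obj (op (n + r)))
  choose Q p hp using key
  have hk : ∀ {n m : ℕ} (h : n ≤ m),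
      HomKilledBy (J ^ (m + 1)) (tr X (Nat.add_le_add_right h r) ≫ p n) := fun {n m} h =>
    homKilled_mono (Ideal.pow_le_pow_right (by omega))
      (smul_eq_zero_of_killed_target (hp n).1 _)
  let t : ∀ {n m : ℕ} (_ : n ≤ m), Q m ⟶ Q n := fun h => quotDesc (hp _) _ (hk h)
  have ht : ∀ {n m : ℕ} (h : n ≤ m), p m ≫ t h = tr X (Nat.add_le_add_right h r) ≫ p n :=
    fun h => quotDesc_fac _ _ _
  let Y : PS C :=
    { obj := fun a => Q a.unop
      map := fun {a b} g => t (leOfHom g.unop)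
      map_id := fun a => by
        have := isQuot_epi (hp a.unop)
        rw [← cancel_epi (p a.unop), ht le_rfl, tr_rfl, Category.id_comp]
        exact (Category.comp_id _).symm
      map_comp := fun {a b c} f g => by
        have := isQuot_epi (hp a.unop)
        rw [← cancel_epi (p a.unop), ht ((leOfHom g.unop).trans (leOfHom f.unop)), ← Category.assoc,
          ht (leOfHom f.unop), Category.assoc, ht (leOfHom g.unop), tr_tr_assoc] }
  let q : (shift C r).obj X ⟶ Y := mkHom p fun h => (ht h).symm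
  refine ⟨Y, q, hp, fun n => (hp n).1, fun n m h => ?_⟩
  change IsQuot _ (t h)
  have := hX (n + r) (m + r) (Nat.add_le_add_right h r)
  have := isQuot_epi (hp n)
  have := isQuot_epi (hp m)
  have : Epi (t h) := by
    have : Epi (tr X (Nat.add_le_add_right h r) ≫ p n) := epi_comp _ _
    exact epi_of_epi_fac (ht h)
  refine isQuot_of_epi (hp n).1 fun W φ hφ => ?_
  -- descend along the transition maps of `X`
  have desc : ∀ j, n + r ≤ j → ∀ (hj : j ≤ m + r), ∃ ψ : X.obj (op j) ⟶ W,
      tr X hj ≫ ψ = p m ≫ φ ∧ HomKilledBy (J ^ (n + 1)) ψ := by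
    intro j hnj hj
    induction hd : m + r - j generalizing j with
    | zero =>
      obtain rfl : j = m + r := by omega
      exact ⟨p m ≫ φ, by rw [tr_rfl, Category.id_comp], homKilled_comp_left _ hφ⟩
    | succ d ih =>
      obtain ⟨ψ, hψ, hψk⟩ := ih (j + 1) (by omega) (by omega) (by omega)
      have h0 : (Fker X (j + 1)).arrow ≫ ψ = 0 :=
        hF (j + 1) W ψ (homKilled_mono (Ideal.pow_le_pow_right (by omega)) hψk)
      have hk0 : kernel.ι (tr X (Nat.le_succ j)) ≫ ψ = 0 := by
        change (kernelSubobject (tr X (Nat.le_succ j))).arrow ≫ ψ = 0 at h0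
        rw [← kernelSubobject_arrow', Category.assoc, h0, comp_zero]
      have := hX j (j + 1) (Nat.le_succ j)
      obtain ⟨χ, hχ⟩ := CokernelCofork.IsColimit.desc' (Abelian.epiIsCokernelOfKernel
        (KernelFork.ofι _ (kernel.condition (tr X (Nat.le_succ j)))) (kernelIsKernel _)) ψ hk0
      change tr X (Nat.le_succ j) ≫ χ = ψ at hχ
      exact ⟨χ, by rw [← tr_tr_assoc X (Nat.le_succ j) (show j + 1 ≤ m + r by omega), hχ, hψ],
        homKilled_of_epi (tr X (Nat.le_succ j)) (hχ.symm ▸ hψk)⟩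
  obtain ⟨ψ, hψ, hψk⟩ := desc (n + r) le_rfl (by omega)
  refine ⟨quotDesc (hp n) ψ hψk, ?_⟩
  rw [← cancel_epi (p m), reassoc_of% (ht h), quotDesc_fac, hψ]

/-- A strict system adic up to translation has small kernels of the transition maps. -/
theorem fker_le_of_isARAdic {X : PS C} (hX : IsStrict X) (h : IsARAdic J X) :
    ∃ r : ℕ, 0 < r ∧ ∀ n : ℕ, SubLEIdeal (J ^ (n - r)) (Fker X n) := by
  obtain ⟨-, Y, u, hY, hu⟩ := h
  obtain ⟨r, ⟨P⟩⟩ := (isARIso_iff u).1 hu
  refine ⟨r + 1, Nat.succ_pos _, fun n W φ hφ => ?_⟩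
  rcases Nat.lt_or_ge (r + 1) n with hn | hn
  swap
  · have h1 := hφ 1 (by rw [Nat.sub_eq_zero_of_le hn, pow_zero, Ideal.one_eq_top]; trivial)
    rw [one_smul] at h1
    rw [h1, comp_zero]
  · obtain ⟨k, rfl⟩ : ∃ k, n = k + (r + 1) + 1 := ⟨n - (r + 1) - 1, by omega⟩
    have hkill : HomKilledBy (J ^ (k + 1)) (u.app (op (k + (r + 1) + 1)) ≫ φ) :=
      homKilled_comp_left _ (homKilled_mono (Ideal.pow_le_pow_right (by omega)) hφ)
    obtain ⟨ψ, hψ, -⟩ := (hY.2 k (k + (r + 1) + 1) (by omega)).2 W _ hkill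
    have hepi : Epi (u.app (op (k + (r + 1) + 1))) := by
      have := hX (k + (r + 1) + 1) (k + (r + 1) + 1 + r) (Nat.le_add_right _ r)
      exact epi_of_epi_fac (P.w_u (show k + (r + 1) + 1 + r ≤ k + (r + 1) + 1 + r from le_rfl))
    have hφ' : φ = P.w k (k + (r + 1) + 1) (by omega) ≫ ψ := by
      rw [← cancel_epi (u.app (op (k + (r + 1) + 1))), ← hψ, ← Category.assoc, P.u_w]
    have hn : tr X (Nat.le_succ (k + (r + 1))) ≫ P.w k (k + (r + 1)) (by omega) =
        P.w k (k + (r + 1) + 1) (by omega) := by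
      rw [P.nat (show k + r ≤ k + (r + 1) by omega) (show k + r ≤ k + (r + 1) + 1 by omega)
        (le_refl k) (Nat.le_succ _), tr_rfl, Category.comp_id]
    rw [hφ', ← hn, Category.assoc]
    change (kernelSubobject (tr X (Nat.le_succ (k + (r + 1))))).arrow ≫ _ = 0
    rw [← Category.assoc, kernelSubobject_arrow_comp, zero_comp]

end Groth.Agent.AR
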