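import Groth.Agent.Lib.ARSys.MLAR

/-!
# The strict subsystem of eventual images, and consequences of strictness
-/

set_option autoImplicit false

universe w v u

open CategoryTheory CategoryTheory.Limits Opposite

namespace Groth.Agent.AR

open ARSys

variable {C : Type u} [Category.{v} C] [Abelian C]

/-- For a system with uniform Mittag-Leffler constant `r`, the subsystem of images of
`X_{n+r} ⟶ X_n` is strict, and its inclusion is an isomorphism up to translation. -/
theorem exists_strict_sub {X : PS C} (hX : IsMLAR X) :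
    ∃ (r : ℕ) (Y : PS C) (ι : Y ⟶ X), Mono ι ∧ IsStrict Y ∧ IsARIso ι ∧
      (∀ s, r ≤ s → ∀ n, imageSubobject (ι.app (op n)) = imageSubobject (shiftMap X s n)) ∧
      (∀ (n m : ℕ) (h : n + r ≤ m),
        ∃ z : X.obj (op m) ⟶ Y.obj (op n), z ≫ ι.app (op n) = tr X (Nat.le_of_add_right_le h)) := by
  obtain ⟨r, hr⟩ := hX
  let S : ∀ n, Subobject (X.obj (op n)) := fun n => imageSubobject (tr X (Nat.le_add_right n r))
  have fac : ∀ (n m : ℕ) (h : n + r ≤ m), (S n).Factors (tr X (show n ≤ m by omega)) := fun n m h => by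
    rw [← tr_tr X (Nat.le_add_right n r) h]
    exact Subobject.factors_of_factors_right _
      ((Subobject.factors_iff _ _).2 ⟨factorThruImageSubobject _, imageSubobject_arrow_comp _⟩)
  have key : ∀ {n m : ℕ} (h : n ≤ m), (S n).Factors ((S m).arrow ≫ tr X h) := fun {n m} h => by
    rw [← image_le_subobject_iff,
      ← imageSubobject_comp_epi (factorThruImageSubobject (tr X (Nat.le_add_right m r))),
      image_le_subobject_iff, imageSubobject_arrow_comp_assoc, tr_tr]
    exact fac n (m + r) (by omega)
  let t : ∀ {n m : ℕ} (_ : n ≤ m), Subobject.underlying.obj (S m) ⟶ Subobject.underlying.obj (S n) :=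
    fun h => (S _).factorThru _ (key h)
  have ht : ∀ {n m : ℕ} (h : n ≤ m), t h ≫ (S n).arrow = (S m).arrow ≫ tr X h :=
    fun h => Subobject.factorThru_arrow _ _ _
  let Y : PS C :=
    { obj := fun a => Subobject.underlying.obj (S a.unop)
      map := fun {a b} g => t (leOfHom g.unop)
      map_id := fun a => by
        rw [← cancel_mono (S a.unop).arrow, ht, tr_rfl]; simp
      map_comp := fun {a b c} f g => by
        rw [← cancel_mono (S c.unop).arrow, ht, Category.assoc, ht, ← Category.assoc, ht,
          Category.assoc, tr_tr] }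
  let ι : Y ⟶ X := mkHom (fun n => (S n).arrow) (fun h => ht h)
  have hmono : ∀ a, Mono (ι.app a) := fun a => inferInstanceAs (Mono (S a.unop).arrow)
  have : Mono ι := NatTrans.mono_of_mono_app ι
  have hlift : ∀ (n m : ℕ) (h : n + r ≤ m),
      ∃ z : X.obj (op m) ⟶ Y.obj (op n), z ≫ ι.app (op n) = tr X (Nat.le_of_add_right_le h) :=
    fun n m h => ⟨(S n).factorThru _ (fac n m h), Subobject.factorThru_arrow _ _ _⟩
  refine ⟨r, Y, ι, this, ?_, ?_, ?_, hlift⟩
  · intro n m h
    change Epi (t h)
    obtain ⟨d, rfl⟩ : ∃ d, m = n + d := ⟨m - n, by omega⟩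
    obtain ⟨T, π, hπ, z, hz⟩ := (image_le_iff (tr X (Nat.le_add_right n r))
      (tr X (Nat.le_add_right n (d + r)))).1 (hr (d + r) (by omega) n).ge
    have hz' : π ≫ factorThruImageSubobject (tr X (Nat.le_add_right n r)) =
        (z ≫ tr X (show n + d + r ≤ n + (d + r) by omega) ≫
          factorThruImageSubobject (tr X (Nat.le_add_right (n + d) r))) ≫ t h := by
      rw [← cancel_mono (S n).arrow]
      simp only [Category.assoc, ht]
      simp only [S, imageSubobject_arrow_comp, imageSubobject_arrow_comp_assoc, tr_tr, hz]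
    have : Epi (π ≫ factorThruImageSubobject (tr X (Nat.le_add_right n r))) := epi_comp _ _
    exact epi_of_epi_fac hz'.symm
  · refine ⟨(kernelNull_iff ι).2 ⟨0, fun n m h T x hx => ?_⟩,
      (cokernelNull_iff ι).2 ⟨r, fun n m h T y => ?_⟩⟩
    · have : x = 0 := (cancel_mono (ι.app (op m))).1 (hx.trans zero_comp.symm)
      simp [this]
    · obtain ⟨z, hz⟩ := hlift n m h
      exact ⟨T, 𝟙 T, inferInstance, y ≫ z, by simp [hz]⟩
  · intro s hs n
    change imageSubobject (S n).arrow = _
    rw [hr s hs n, ← imageSubobject_comp_epi (factorThruImageSubobject (tr X (Nat.le_add_right n r))),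
      imageSubobject_arrow_comp]
    rfl

theorem image_eq_of_strict_arIso {X Y : PS C} (u : Y ⟶ X) (hY : IsStrict Y) (hu : IsARIso u) :
    ∃ r : ℕ, ∀ s : ℕ, r ≤ s → ∀ n : ℕ,
      imageSubobject (shiftMap X s n) = imageSubobject (u.app (op n)) := by
  obtain ⟨r, ⟨p⟩⟩ := (isARIso_iff u).1 hu
  refine ⟨r, fun s hs n => le_antisymm ?_ ?_⟩
  · change imageSubobject (tr X (Nat.le_add_right n s)) ≤ _
    rw [← p.w_u (show n + r ≤ n + s by omega)]
    exact imageSubobject_comp_le _ _
  · change _ ≤ imageSubobject (tr X (Nat.le_add_right n s))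
    have := hY n (n + s) (Nat.le_add_right n s)
    rw [← imageSubobject_comp_epi (tr Y (Nat.le_add_right n s)), tr_nat]
    exact imageSubobject_comp_le _ _

end Groth.Agent.AR
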