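import Groth.Agent.Lib.ARSys.MLAR
import Mathlib.CategoryTheory.Subobject.Lattice
import Mathlib.CategoryTheory.Linear.Basic
import Mathlib.Order.ModularLattice
import Mathlib.Order.GaloisConnection.Basic

/-!
# The lattice of subobjects of an object of an abelian category
-/

set_option autoImplicit false

universe w v u

open CategoryTheory CategoryTheory.Limits Opposite

namespace Groth.Agent.AR

variable {C : Type u} [Category.{v} C] [Abelian C]

theorem factors_arrow_of_le {X : C} {S T : Subobject X} (h : S ≤ T) : T.Factors S.arrow :=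
  Subobject.factors_of_le _ h ((Subobject.factors_iff _ _).2 ⟨𝟙 _, by simp⟩)

theorem le_iff_factors {X : C} {S T : Subobject X} : S ≤ T ↔ T.Factors S.arrow :=
  ⟨factors_arrow_of_le, fun h => Subobject.le_of_comm (T.factorThru _ h) (by simp)⟩

theorem factors_comp_arrow {X W : C} (S : Subobject X) (y : W ⟶ Subobject.underlying.obj S) :
    S.Factors (y ≫ S.arrow) :=
  (Subobject.factors_iff _ _).2 ⟨y, rfl⟩

theorem factors_of_epi_comp {W W' X : C} {S : Subobject X} (π : W' ⟶ W) [Epi π] (x : W ⟶ X)
    (h : S.Factors (π ≫ x)) : S.Factors x := by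
  rwa [← image_le_subobject_iff, imageSubobject_comp_epi, image_le_subobject_iff] at h

theorem factors_neg {X W : C} {S : Subobject X} {x : W ⟶ X} (h : S.Factors x) : S.Factors (-x) := by
  rw [← Subobject.factorThru_arrow S x h, ← Preadditive.neg_comp]
  exact factors_comp_arrow S _

theorem factors_sub {X W : C} {S : Subobject X} {x y : W ⟶ X} (h : S.Factors x) (h' : S.Factors y) :
    S.Factors (x - y) := by
  rw [sub_eq_add_neg]
  exact Subobject.factors_add _ _ h (factors_neg h')

theorem le_of_forall_factors {X : C} {S T : Subobject X}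
    (h : ∀ ⦃W : C⦄ (x : W ⟶ X), S.Factors x → T.Factors x) : S ≤ T :=
  le_iff_factors.2 (h _ (factors_arrow_of_le le_rfl))

theorem factors_sup_iff {X W : C} {S T : Subobject X} (x : W ⟶ X) :
    (S ⊔ T).Factors x ↔ ∃ (W' : C) (π : W' ⟶ W) (_ : Epi π) (y z : W' ⟶ X),
      S.Factors y ∧ T.Factors z ∧ π ≫ x = y + z := by
  constructor
  · intro h
    let f : Subobject.underlying.obj S ⊞ Subobject.underlying.obj T ⟶ X :=
      biprod.desc S.arrow T.arrow
    have hle : S ⊔ T ≤ imageSubobject f := by
      refine sup_le (le_iff_factors.2 ?_) (le_iff_factors.2 ?_) <;> rw [← image_le_subobject_iff]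
      · exact (image_le_iff _ _).2 ⟨_, 𝟙 _, inferInstance, biprod.inl, by simp [f]⟩
      · exact (image_le_iff _ _).2 ⟨_, 𝟙 _, inferInstance, biprod.inr, by simp [f]⟩
    obtain ⟨W', π, hπ, p, hp⟩ :=
      (image_le_iff x f).1 (((image_le_subobject_iff x _).2 h).trans hle)
    refine ⟨W', π, hπ, (p ≫ biprod.fst) ≫ S.arrow, (p ≫ biprod.snd) ≫ T.arrow,
      factors_comp_arrow _ _, factors_comp_arrow _ _, ?_⟩
    rw [hp]
    simp [f, biprod.desc_eq]
  · rintro ⟨W', π, hπ, y, z, hy, hz, e⟩
    exact factors_of_epi_comp π x (e ▸ Subobject.factors_add _ _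
      (Subobject.factors_of_le _ le_sup_left hy) (Subobject.factors_of_le _ le_sup_right hz))

instance subobjectModular (X : C) : IsModularLattice (Subobject X) where
  sup_inf_le_assoc_of_le {x} y {z} hxz := le_of_forall_factors fun W w hw => by
    obtain ⟨h1, h2⟩ := (Subobject.inf_factors _).1 hw
    obtain ⟨W', π, hπ, a, b, ha, hb, e⟩ := (factors_sup_iff w).1 h1
    refine (factors_sup_iff w).2 ⟨W', π, hπ, a, b, ha, (Subobject.inf_factors _).2 ⟨hb, ?_⟩, e⟩
    rw [show b = π ≫ w - a by rw [e]; abel]
    exact factors_sub (Subobject.factors_of_factors_right _ h2) (Subobject.factors_of_le _ hxz ha)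

/-- The image of a subobject. -/
noncomputable def img {X Y : C} (f : X ⟶ Y) (S : Subobject X) : Subobject Y :=
  imageSubobject (S.arrow ≫ f)

/-- The preimage of a subobject. -/
noncomputable def preim {X Y : C} (f : X ⟶ Y) (T : Subobject Y) : Subobject X :=
  (Subobject.pullback f).obj T

theorem preim_factors {X Y W : C} (f : X ⟶ Y) (T : Subobject Y) (x : W ⟶ X) :
    (preim f T).Factors x ↔ T.Factors (x ≫ f) := pullback_factors_iff f T x

theorem gc_img {X Y : C} (f : X ⟶ Y) : GaloisConnection (img f) (preim f) := fun S T => by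
  rw [img, image_le_subobject_iff, le_iff_factors, preim_factors]

theorem img_factors {X Y W : C} (f : X ⟶ Y) {S : Subobject X} {x : W ⟶ X} (h : S.Factors x) :
    (img f S).Factors (x ≫ f) := by
  rw [← Subobject.factorThru_arrow S x h, Category.assoc, ← image_le_subobject_iff]
  exact imageSubobject_comp_le _ _

theorem factors_img_iff {X Y W : C} (f : X ⟶ Y) (S : Subobject X) (y : W ⟶ Y) :
    (img f S).Factors y ↔ ∃ (W' : C) (π : W' ⟶ W) (_ : Epi π) (x : W' ⟶ X),
      S.Factors x ∧ π ≫ y = x ≫ f := by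
  constructor
  · intro h
    obtain ⟨W', π, hπ, z, hz⟩ := (image_le_iff y (S.arrow ≫ f)).1 ((image_le_subobject_iff _ _).2 h)
    exact ⟨W', π, hπ, z ≫ S.arrow, factors_comp_arrow _ _, by rw [hz, Category.assoc]⟩
  · rintro ⟨W', π, hπ, x, hx, e⟩
    exact factors_of_epi_comp π y (e ▸ img_factors f hx)

theorem img_inf_le {X Y : C} (f : X ⟶ Y) (S : Subobject X) (T : Subobject Y) :
    img f S ⊓ T ≤ img f (S ⊓ preim f T) := le_of_forall_factors fun W y hy => by
  obtain ⟨h1, h2⟩ := (Subobject.inf_factors _).1 hy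
  obtain ⟨W', π, hπ, x, hx, e⟩ := (factors_img_iff f S y).1 h1
  refine (factors_img_iff f _ y).2 ⟨W', π, hπ, x, (Subobject.inf_factors _).2
    ⟨hx, (preim_factors f T x).2 ?_⟩, e⟩
  rw [← e]
  exact Subobject.factors_of_factors_right _ h2

theorem img_img {X Y Z : C} (f : X ⟶ Y) (g : Y ⟶ Z) (S : Subobject X) :
    img g (img f S) = img (f ≫ g) S := by
  refine le_antisymm ((gc_img g).l_le ((image_le_subobject_iff _ _).2 ?_)) ?_
  · rw [preim_factors, Category.assoc, ← image_le_subobject_iff]
    exact le_rfl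
  · rw [img, image_le_subobject_iff, ← Category.assoc]
    exact img_factors g ((image_le_subobject_iff _ _).1 le_rfl)

theorem factors_smul {A : Type w} [CommRing A] [Linear A C] {X W : C} {S : Subobject X} {x : W ⟶ X}
    (a : A) (h : S.Factors x) : S.Factors (a • x) := by
  rw [← Subobject.factorThru_arrow S x h, ← Linear.smul_comp]
  exact factors_comp_arrow S _

end Groth.Agent.AR
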