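import Groth.Agent.Lib.ARSys.Quot
import Groth.Agent.Lib.ARSys.QShift
import Groth.Agent.Lib.ARSys.Strict
import Groth.Agent.Lib.ARSys.Sub

/-!
# Strict systems adapted to an ideal: multiplication maps, finite type
-/

set_option autoImplicit false

universe w v u

open CategoryTheory CategoryTheory.Limits Opposite

namespace Groth.Agent.AR

open ARSys

variable {C : Type u} [Category.{v} C] [Abelian C]

theorem fsub_succ (X : PS C) {k n : ℕ} (h : k ≤ n) :
    Fsub X (k + 1) n = kernelSubobject (tr X h) := by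
  rw [Fsub, dif_pos h]

theorem fsub_self (X : PS C) : ∀ q, Fsub X q q = Fker X q
  | 0 => rfl
  | k + 1 => fsub_succ X (Nat.le_succ k)

theorem fsub_arrow_tr (X : PS C) {k n : ℕ} (h : k ≤ n) :
    (Fsub X (k + 1) n).arrow ≫ tr X h = 0 := by
  rw [fsub_succ X h]; exact kernelSubobject_arrow_comp _

theorem fker_factors_iff (X : PS C) {k : ℕ} {T : C} (x : T ⟶ X.obj (op (k + 1))) :
    (Fker X (k + 1)).Factors x ↔ x ≫ tr X (Nat.le_succ k) = 0 :=
  kernelSubobject_factors_iff _ _

variable {A : Type w} [CommRing A] [Linear A C] {J : Ideal A}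

theorem isAdapted_of_isAdic {X : PS C} (hX : IsAdic J X) : IsAdapted J X := by
  intro n p hp a ha
  rcases hk : n + 1 - p with - | k
  · rw [hX.1 n a (Ideal.pow_le_pow_right (show n + 1 ≤ p by omega) ha), comp_zero]
  · have hkill : HomKilledBy (J ^ (k + 1)) (a • 𝟙 (X.obj (op n))) := fun b hb => by
      rw [smul_smul]
      refine hX.1 n _ (Ideal.pow_le_pow_right (show n + 1 ≤ p + (k + 1) by omega) ?_)
      rw [pow_add, mul_comm b a]
      exact Ideal.mul_mem_mul ha hb
    rw [← quotDesc_fac (hX.2 k n (by omega)) _ hkill, ← Category.assoc,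
      fsub_arrow_tr X (show k ≤ n by omega), zero_comp]

theorem exists_mul {X : PS C} (hX : IsStrict X) (hA : IsAdapted J X) {p q m : ℕ} (h : q ≤ m)
    (hm : m ≤ p + q) {a : A} (ha : a ∈ J ^ p) :
    ∃ μ : X.obj (op q) ⟶ X.obj (op m), tr X h ≫ μ = a • 𝟙 _ := by
  have h0 := hA m (m - q) (by omega) a (Ideal.pow_le_pow_right (show m - q ≤ p by omega) ha)
  rw [show m + 1 - (m - q) = q + 1 by omega, fsub_succ X h] at h0
  have hk : kernel.ι (tr X h) ≫ (a • 𝟙 (X.obj (op m))) = 0 := by
    rw [← kernelSubobject_arrow', Category.assoc, h0, comp_zero]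
  have := hX q m h
  obtain ⟨μ, hμ⟩ := CokernelCofork.IsColimit.desc' (Abelian.epiIsCokernelOfKernel
    (KernelFork.ofι _ (kernel.condition (tr X h))) (kernelIsKernel _)) _ hk
  exact ⟨μ, hμ⟩

theorem isGrSub_apply {X : PS C} {M : (q : ℕ) → Subobject (X.obj (op q))} (hM : IsGrSub J X M)
    {p q m : ℕ} (hm : p + q = m) (h : q ≤ m) {a : A} (ha : a ∈ J ^ p) {T : C}
    (x : T ⟶ X.obj (op m)) (hx : (M q).Factors (x ≫ tr X h)) : (M m).Factors (a • x) := by
  subst hm
  have hP : ((Subobject.pullback (tr X h)).obj (M q)).Factors x := (preim_factors _ _ _).2 hx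
  have h2 := (image_le_subobject_iff _ _).1 (hM.2 p q a ha)
  rw [← Category.comp_id x, ← Linear.comp_smul, ← Subobject.factorThru_arrow _ x hP, Category.assoc]
  exact Subobject.factors_of_factors_right _ h2

theorem isGrSub_of_factors {X : PS C} {M : (q : ℕ) → Subobject (X.obj (op q))}
    (hle : ∀ q, M q ≤ Fsub X q q)
    (hmul : ∀ (p q : ℕ) (h : q ≤ p + q), ∀ a ∈ J ^ p, ∀ ⦃T : C⦄ (x : T ⟶ X.obj (op (p + q))),
      (M q).Factors (x ≫ tr X h) → (M (p + q)).Factors (a • x)) :
    IsGrSub J X M := by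
  refine ⟨hle, fun p q a ha => (image_le_subobject_iff _ _).2 ?_⟩
  rw [Linear.comp_smul, Category.comp_id]
  exact hmul p q _ a ha _ ((preim_factors _ _ _).1 (factors_arrow_of_le le_rfl))

theorem termKilled_of_isAdapted {X : PS C} (hA : IsAdapted J X) : TermKilled J X := by
  intro n a ha
  have h := hA n (n + 1) le_rfl a ha
  rw [show n + 1 - (n + 1) = 0 by omega] at h
  change (⊤ : Subobject (X.obj (op n))).arrow ≫ _ = 0 at h
  rwa [← cancel_epi (⊤ : Subobject (X.obj (op n))).arrow, comp_zero]

theorem fsub_mul {X : PS C} (hX : IsStrict X) (hA : IsAdapted J X) {p q m : ℕ} (hm : p + q = m)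
    (h : q ≤ m) {a : A} (ha : a ∈ J ^ p) {T : C} (x : T ⟶ X.obj (op m))
    (hx : (Fker X q).Factors (x ≫ tr X h)) : (Fker X m).Factors (a • x) := by
  rcases m with - | k
  · exact Subobject.top_factors _
  rw [fker_factors_iff, Linear.smul_comp]
  rcases q with - | j
  · have hk : a • (𝟙 (X.obj (op k))) = 0 :=
      termKilled_of_isAdapted hA k a (by rwa [show k + 1 = p by omega])
    rw [← Category.comp_id (x ≫ _), ← Linear.comp_smul, hk, comp_zero]
  · rw [fker_factors_iff, Category.assoc, tr_tr] at hx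
    obtain ⟨μ, hμ⟩ := exists_mul hX hA (show j ≤ k by omega) (show k ≤ p + j by omega) ha
    rw [← Category.comp_id (x ≫ _), ← Linear.comp_smul, ← hμ, Category.assoc, tr_tr_assoc,
      reassoc_of% hx, zero_comp]

/-- A strict adapted system with graded object of finite type is adic up to translation. -/
theorem isARAdic_of_finiteType (hJ : J.FG ∨ HasCoproducts.{w} C) {X : PS C} (hX : IsStrict X)
    (hA : IsAdapted J X) (hft : GrsFiniteType J X) : IsARAdic J X := by
  have key := fun (i q : ℕ) => exists_isQuot (pow_hJ hJ (q - i)) (X.obj (op q))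
  choose Q π hπ using key
  let M : ℕ → (q : ℕ) → Subobject (X.obj (op q)) :=
    fun i q => Fsub X q q ⊓ kernelSubobject (π i q)
  have hM : ∀ i, IsGrSub J X (M i) := fun i => by
    refine isGrSub_of_factors (fun q => inf_le_left) fun p q h a ha T x hx => ?_
    obtain ⟨hx1, hx2⟩ := (Subobject.inf_factors _).1 hx
    rw [kernelSubobject_factors_iff, Category.assoc] at hx2
    refine (Subobject.inf_factors _).2 ⟨?_, (kernelSubobject_factors_iff _ _).2 ?_⟩
    · rw [fsub_self]
      exact fsub_mul hX hA rfl h ha x (fsub_self X q ▸ hx1)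
    · obtain ⟨μ, hμ⟩ := exists_mul hX hA h le_rfl ha
      have := hX q (p + q) h
      have hk : HomKilledBy (J ^ (q - i)) (μ ≫ π i (p + q)) := by
        refine homKilled_of_epi (tr X h) fun b hb => ?_
        rw [← Category.assoc, hμ, Linear.smul_comp, Category.id_comp, smul_smul]
        refine smul_eq_zero_of_killed_target (hπ i (p + q)).1 _ _ ?_
        refine Ideal.pow_le_pow_right (show p + q - i ≤ (q - i) + p by omega) ?_
        rw [pow_add]
        exact Ideal.mul_mem_mul hb ha
      rw [← Category.comp_id x, ← Linear.comp_smul, ← hμ, Category.assoc, Category.assoc,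
        ← quotDesc_fac (hπ i q) _ hk, reassoc_of% hx2, zero_comp]
  have hmono : Monotone M := fun i i' hii q => by
    refine inf_le_inf_left _ (le_kernelSubobject _ _ ?_)
    have hk : HomKilledBy (J ^ (q - i)) (π i' q) :=
      homKilled_mono (Ideal.pow_le_pow_right (by omega))
        (smul_eq_zero_of_killed_target (hπ i' q).1 _)
    rw [← quotDesc_fac (hπ i q) _ hk, kernelSubobject_arrow_comp_assoc, zero_comp]
  have hlub : ∀ q, IsLUB (Set.range fun i => M i q) (Fsub X q q) := fun q => by
    refine ⟨by rintro _ ⟨i, rfl⟩; exact inf_le_left, fun S hS => ?_⟩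
    refine le_trans (le_inf le_rfl (le_trans le_top (le_kernelSubobject _ _ ?_))) (hS ⟨q, rfl⟩)
    have := smul_eq_zero_of_killed_target (hπ q q).1 (π q q) 1
      (by rw [Nat.sub_self, pow_zero, Ideal.one_eq_top]; trivial)
    rw [one_smul] at this
    rw [this, comp_zero]
  obtain ⟨i, hi⟩ := hft M hM hmono hlub
  have hF : ∀ n, SubLEIdeal (J ^ (n - i)) (Fker X n) := fun n W φ hφ => by
    have hle : Fker X n ≤ kernelSubobject (π i n) := by
      rw [← fsub_self, ← hi n]; exact inf_le_right
    rw [← quotDesc_fac (hπ i n) φ hφ, ← Subobject.ofLE_arrow hle, Category.assoc,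
      kernelSubobject_arrow_comp_assoc, zero_comp, comp_zero]
  obtain ⟨Y, q, hq, hY⟩ := exists_adic_quot_shift hJ hX hF
  exact isARAdic_of_quot_shift (termKilled_of_isAdapted hA) (fun n => q.app (op n)) hq
    (fun h => q.naturality (homOfLE h).op) hY

end Groth.Agent.AR
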