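import Groth.Agent.Lib.ARSys.Basic
import Mathlib.RingTheory.Finiteness.Ideal

/-!
# Quotient maps modulo an ideal and adic systems
-/

set_option autoImplicit false

universe w v u

open CategoryTheory CategoryTheory.Limits Opposite

namespace Groth.Agent.AR

open ARSys

variable {C : Type u} [Category.{v} C] [Abelian C] {A : Type w} [CommRing A] [Linear A C]

theorem killed_mono {I I' : Ideal A} (h : I ≤ I') {X : C} (hX : KilledBy I' X) : KilledBy I X :=
  fun a ha => hX a (h ha)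

theorem smul_eq_zero_of_killed_target {I : Ideal A} {X Y : C} (hY : KilledBy I Y) (φ : X ⟶ Y) :
    HomKilledBy I φ := fun a ha => by
  calc a • φ = φ ≫ (a • 𝟙 Y) := by rw [Linear.comp_smul, Category.comp_id]
    _ = 0 := by rw [hY a ha, comp_zero]

theorem smul_eq_zero_of_killed_source {I : Ideal A} {X Y : C} (hX : KilledBy I X) (φ : X ⟶ Y) :
    HomKilledBy I φ := fun a ha => by
  calc a • φ = (a • 𝟙 X) ≫ φ := by rw [Linear.smul_comp, Category.id_comp]
    _ = 0 := by rw [hX a ha, zero_comp]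

theorem homKilled_mono {I I' : Ideal A} (h : I ≤ I') {X Y : C} {φ : X ⟶ Y}
    (hφ : HomKilledBy I' φ) : HomKilledBy I φ := fun a ha => hφ a (h ha)

theorem homKilled_comp_left {I : Ideal A} {T X Y : C} (x : T ⟶ X) {φ : X ⟶ Y}
    (hφ : HomKilledBy I φ) : HomKilledBy I (x ≫ φ) := fun a ha => by
  rw [← Linear.comp_smul, hφ a ha, comp_zero]

theorem homKilled_comp_right {I : Ideal A} {X Y Z : C} {φ : X ⟶ Y} (hφ : HomKilledBy I φ)
    (y : Y ⟶ Z) : HomKilledBy I (φ ≫ y) := fun a ha => by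
  rw [← Linear.smul_comp, hφ a ha, zero_comp]

theorem homKilled_of_epi {I : Ideal A} {T X Y : C} (x : T ⟶ X) [Epi x] {φ : X ⟶ Y}
    (hφ : HomKilledBy I (x ≫ φ)) : HomKilledBy I φ := fun a ha => by
  rw [← cancel_epi x, Linear.comp_smul, hφ a ha, comp_zero]

theorem killed_of_epi {I : Ideal A} {X Y : C} (g : X ⟶ Y) [Epi g] (hX : KilledBy I X) :
    KilledBy I Y :=
  homKilled_of_epi g (by simpa using smul_eq_zero_of_killed_source hX g)

theorem killed_of_mono {I : Ideal A} {X Y : C} (f : X ⟶ Y) [Mono f] (hY : KilledBy I Y) :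
    KilledBy I X := fun a ha => by
  rw [← cancel_mono f, zero_comp, Linear.smul_comp, Category.id_comp,
    smul_eq_zero_of_killed_target hY f a ha]

theorem isQuot_epi {I : Ideal A} {X Q : C} {p : X ⟶ Q} (hp : IsQuot I p) : Epi p :=
  ⟨fun {Y} a b hab =>
    (hp.2 Y (p ≫ a) (homKilled_comp_left p (smul_eq_zero_of_killed_source hp.1 a))).unique rfl
      hab.symm⟩

/-- Factor a map killed by `I` through a quotient map. -/
noncomputable def quotDesc {I : Ideal A} {X Q Y : C} {p : X ⟶ Q} (hp : IsQuot I p) (φ : X ⟶ Y)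
    (hφ : HomKilledBy I φ) : Q ⟶ Y := (hp.2 Y φ hφ).choose

@[reassoc]
theorem quotDesc_fac {I : Ideal A} {X Q Y : C} {p : X ⟶ Q} (hp : IsQuot I p) (φ : X ⟶ Y)
    (hφ : HomKilledBy I φ) : p ≫ quotDesc hp φ hφ = φ := (hp.2 Y φ hφ).choose_spec.1

theorem isQuot_of_epi {I : Ideal A} {X Q : C} {p : X ⟶ Q} [Epi p] (hQ : KilledBy I Q)
    (h : ∀ (Y : C) (φ : X ⟶ Y), HomKilledBy I φ → ∃ ψ : Q ⟶ Y, p ≫ ψ = φ) : IsQuot I p :=
  ⟨hQ, fun Y φ hφ => by
    obtain ⟨ψ, hψ⟩ := h Y φ hφ
    exact ⟨ψ, hψ, fun ψ' hψ' => (cancel_epi p).1 (hψ'.trans hψ.symm)⟩⟩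

theorem isAdic_epi {J : Ideal A} {X : PS C} (hX : IsAdic J X) {n m : ℕ} (h : n ≤ m) :
    Epi (tr X h) := isQuot_epi (hX.2 n m h)

theorem isAdic_isStrict {J : Ideal A} {X : PS C} (hX : IsAdic J X) : IsStrict X :=
  fun _ _ h => isAdic_epi hX h

theorem isStrict_of_succ {X : PS C} (h : ∀ n, Epi (tr X (Nat.le_succ n))) : IsStrict X := by
  intro n m hnm
  induction m, hnm using Nat.le_induction with
  | base => rw [tr_rfl]; infer_instance
  | succ k hk ih =>
    have := h k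
    rw [← tr_tr X hk (Nat.le_succ k)]
    exact epi_comp _ _

theorem isQuot_comp_iso {I : Ideal A} {X Q Q' : C} {p : X ⟶ Q} (hp : IsQuot I p) (e : Q ≅ Q') :
    IsQuot I (p ≫ e.hom) := by
  have := isQuot_epi hp
  refine isQuot_of_epi (killed_of_epi e.hom hp.1) fun Y φ hφ => ⟨e.inv ≫ quotDesc hp φ hφ, ?_⟩
  simp [quotDesc_fac]

/-- A quotient map of a family of maps with image `I X`. -/
theorem isQuot_of_cokernel {I : Ideal A} {X P : C} (s : Set A) (hs : Ideal.span s = I)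
    (f : P ⟶ X) (hf : ∀ (Y : C) (φ : X ⟶ Y), f ≫ φ = 0 ↔ ∀ a ∈ s, a • φ = 0) :
    IsQuot I (cokernel.π f) := by
  have key : ∀ {Y : C} (φ : X ⟶ Y), f ≫ φ = 0 ↔ HomKilledBy I φ := by
    intro Y φ
    rw [hf]
    refine ⟨fun h a ha => ?_, fun h a ha => h a (hs ▸ Ideal.subset_span ha)⟩
    rw [← hs] at ha
    induction ha using Submodule.span_induction with
    | mem x hx => exact h x hx
    | zero => exact zero_smul A φ
    | add x y _ _ hx hy => rw [add_smul, hx, hy, add_zero]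
    | smul r x _ hx => rw [smul_eq_mul, mul_smul, hx, smul_zero]
  refine isQuot_of_epi ?_ fun Y φ hφ => ⟨cokernel.desc f φ ((key φ).2 hφ), cokernel.π_desc _ _ _⟩
  exact homKilled_of_epi (cokernel.π f) (by simpa using (key _).1 (cokernel.condition f))

theorem exists_isQuot {I : Ideal A} (hI : I.FG ∨ HasCoproducts.{w} C) (X : C) :
    ∃ (Q : C) (p : X ⟶ Q), IsQuot I p := by
  rcases hI with hfg | hco
  · obtain ⟨s, hs⟩ := hfg
    have : HasFiniteBiproducts C := Abelian.hasFiniteBiproducts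
    refine ⟨_, _, isQuot_of_cokernel (s : Set A) hs
      (biproduct.desc fun a : {a // a ∈ s} => (a : A) • 𝟙 X) fun Y φ => ?_⟩
    constructor
    · intro h a ha
      have := biproduct.ι (fun _ : {a // a ∈ s} => X) ⟨a, ha⟩ ≫= h
      simpa using this
    · intro h
      refine biproduct.hom_ext' _ _ fun a => ?_
      simp [h a a.2]
  · have := hco (I : Set A)
    refine ⟨_, _, isQuot_of_cokernel (I : Set A) (Ideal.span_eq I)
      (Sigma.desc fun a : (I : Set A) => (a : A) • 𝟙 X) fun Y φ => ?_⟩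
    constructor
    · intro h a ha
      have := Sigma.ι (fun _ : (I : Set A) => X) ⟨a, ha⟩ ≫= h
      simpa using this
    · intro h
      refine Sigma.hom_ext _ _ fun a => ?_
      simp [h a a.2]

theorem pow_hJ {J : Ideal A} (hJ : J.FG ∨ HasCoproducts.{w} C) (k : ℕ) :
    (J ^ k).FG ∨ HasCoproducts.{w} C :=
  hJ.imp (fun h => Ideal.FG.pow h) id

end Groth.Agent.AR
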