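import Mathlib.Order.ModularLattice
import Mathlib.Order.GaloisConnection.Basic
import Mathlib.Order.OrderIsoNat
import Mathlib.Data.Finset.Lattice.Fold

/-!
# Hilbert's basis argument in a modular lattice
-/

set_option autoImplicit false

universe u

namespace Groth.Agent.Hilb

variable {Λ : Type u} [Lattice Λ] [OrderBot Λ]

/-- The step of Hilbert's basis argument: `push` is multiplication by the new variable, `G` the
submodule generated with the old variables, `F i` the elements of degree `< i` in the new one. -/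
theorem step [IsModularLattice Λ] (push pre : Λ → Λ) (gc : GaloisConnection push pre)
    (frob : ∀ A Z, push A ⊓ Z ≤ push (A ⊓ pre Z)) (P : Λ → Prop)
    (hpre : ∀ Z, P Z → P (pre Z)) (hpush : ∀ Z, P Z → P (push Z))
    (hsup : ∀ Y Z, P Y → P Z → P (Y ⊔ Z)) (hinf : ∀ Y Z, P Y → P Z → P (Y ⊓ Z)) (hbot : P ⊥)
    (G : Λ) (hG : P G) [h : WellFoundedGT {N : Λ // N ≤ G ∧ P N}]
    (F : ℕ → Λ) (hF0 : F 0 = ⊥) (hF : ∀ i, F (i + 1) = G ⊔ push (F i))
    (M : ℕ →o Λ) (hM : ∀ k, P (M k) ∧ push (M k) ≤ M k) :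
    ∃ k₀, ∀ k, k₀ ≤ k → ∀ i, M k ⊓ F i ≤ M k₀ := by
  have gci : ∀ i, GaloisConnection push^[i] pre^[i] := by
    intro i
    induction i with
    | zero => exact GaloisConnection.id
    | succ i ih => rw [Function.iterate_succ' push, Function.iterate_succ pre]; exact ih.compose gc
  have frobi : ∀ i A Z, push^[i] A ⊓ Z ≤ push^[i] (A ⊓ pre^[i] Z) := by
    intro i
    induction i with
    | zero => intro A Z; exact le_rfl
    | succ i ih =>
      intro A Z
      rw [Function.iterate_succ_apply' push, Function.iterate_succ_apply' push,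
        Function.iterate_succ_apply pre]
      exact (frob _ _).trans (gc.monotone_l (ih _ _))
  have hFsucc : ∀ i, F (i + 1) = push^[i] G ⊔ F i := by
    intro i
    induction i with
    | zero => rw [hF, hF0, gc.l_bot]; simp
    | succ i ih =>
      conv_lhs => rw [hF (i + 1), ih, gc.l_sup]
      rw [Function.iterate_succ_apply' push, sup_left_comm, ← hF i]
  have hFP : ∀ i, P (F i) := by
    intro i
    induction i with
    | zero => rw [hF0]; exact hbot
    | succ i ih => rw [hF]; exact hsup _ _ hG (hpush _ ih)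
  have hPpre : ∀ i Z, P Z → P (pre^[i] Z) := by
    intro i
    induction i with
    | zero => exact fun _ h => h
    | succ i ih =>
      intro Z hZ
      rw [Function.iterate_succ_apply pre]
      exact ih _ (hpre _ hZ)
  let L : ℕ → ℕ → {N : Λ // N ≤ G ∧ P N} := fun k i =>
    ⟨G ⊓ pre^[i] (M k ⊔ F i), inf_le_left, hinf _ _ hG (hPpre i _ (hsup _ _ (hM k).1 (hFP i)))⟩
  have hLk : ∀ i, Monotone fun k => L k i := fun i k k' hk =>
    inf_le_inf_left G ((gci i).monotone_u (sup_le_sup_right (M.monotone hk) _))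
  have hLi : ∀ k, Monotone (L k) := fun k => monotone_nat_of_le_succ fun i => by
    refine inf_le_inf_left G ?_
    rw [Function.iterate_succ_apply pre]
    refine (gci i).monotone_u (gc.le_u ?_)
    rw [gc.l_sup]
    exact sup_le ((hM k).2.trans le_sup_left) (((le_sup_right).trans (hF i).ge).trans le_sup_right)
  let diag : ℕ →o {N : Λ // N ≤ G ∧ P N} :=
    ⟨fun p => L p p, fun a b hab => (hLk a hab).trans (hLi b hab)⟩
  obtain ⟨p₀, hp₀⟩ := wellFoundedGT_iff_monotone_chain_condition.1 h diag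
  have col : ∀ i, ∃ k, ∀ k', k ≤ k' → L k i = L k' i := fun i =>
    wellFoundedGT_iff_monotone_chain_condition.1 h ⟨fun k => L k i, hLk i⟩
  choose K hK using col
  let b := max p₀ ((Finset.range p₀).sup K)
  refine ⟨b, fun k hk => ?_⟩
  have hle : ∀ i, L k i ≤ L b i := fun i => by
    rcases Nat.lt_or_ge i p₀ with hi | hi
    · have hb : K i ≤ b := le_max_of_le_right (Finset.le_sup (Finset.mem_range.2 hi))
      exact ((hK i k (hb.trans hk)).symm.trans (hK i b hb)).le
    · calc L k i ≤ L (max k i) i := hLk i (le_max_left _ _)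
        _ ≤ L (max k i) (max k i) := hLi _ (le_max_right _ _)
        _ = L p₀ p₀ := (hp₀ _ (le_max_of_le_right hi)).symm
        _ ≤ L p₀ i := hLi _ hi
        _ ≤ L b i := hLk i (le_max_left _ _)
  intro i
  induction i with
  | zero => rw [hF0]; simp
  | succ i ih =>
    rw [hFsucc]
    have h1 : push^[i] G ⊓ (M k ⊔ F i) ≤ M b ⊔ F i :=
      (frobi i G _).trans ((gci i).l_le ((Subtype.coe_le_coe.2 (hle i)).trans inf_le_right))
    have h2 : M k ⊓ (push^[i] G ⊔ F i) ≤ M b ⊔ F i := by
      calc M k ⊓ (push^[i] G ⊔ F i) ≤ (F i ⊔ push^[i] G) ⊓ (M k ⊔ F i) :=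
            le_inf (inf_le_right.trans (sup_comm _ _).le) (inf_le_left.trans le_sup_left)
        _ ≤ F i ⊔ push^[i] G ⊓ (M k ⊔ F i) := IsModularLattice.sup_inf_le_assoc_of_le _ le_sup_right
        _ ≤ M b ⊔ F i := sup_le le_sup_right h1
    calc M k ⊓ (push^[i] G ⊔ F i) ≤ (M b ⊔ F i) ⊓ M k := le_inf h2 inf_le_left
      _ ≤ M b ⊔ F i ⊓ M k := IsModularLattice.sup_inf_le_assoc_of_le _ (M.monotone hk)
      _ ≤ M b := sup_le le_rfl (inf_comm (F i) (M k) ▸ ih)

end Groth.Agent.Hilb
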