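import Groth.Agent.Lib.ARSys.Sub
import Groth.Agent.Lib.ARSys.Hilbert
import Mathlib.CategoryTheory.Subobject.NoetherianObject

/-!
# Hilbert's basis theorem for graded objects with commuting operators of degree one
-/

set_option autoImplicit false

universe w v u

open CategoryTheory CategoryTheory.Limits

namespace Groth.Agent.AR.Gr

variable {C : Type u} [Category.{v} C] [Abelian C]

/-- Graded families of subobjects. -/
abbrev Fam (G : ℕ → C) : Type (max u v) := ∀ q, Subobject (G q)

variable {G : ℕ → C}

instance famModular : IsModularLattice (Fam G) where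
  sup_inf_le_assoc_of_le {_} _ {_} h q := IsModularLattice.sup_inf_le_assoc_of_le _ (h q)

/-- Push a family forward along an operator of degree one. -/
noncomputable def push (s : ∀ q, G q ⟶ G (q + 1)) (Z : Fam G) : Fam G
  | 0 => ⊥
  | q + 1 => img (s q) (Z q)

/-- Pull a family back along an operator of degree one. -/
noncomputable def pre (s : ∀ q, G q ⟶ G (q + 1)) (Z : Fam G) : Fam G :=
  fun q => preim (s q) (Z (q + 1))

theorem gc_push (s : ∀ q, G q ⟶ G (q + 1)) : GaloisConnection (push s) (pre s) := fun Y Z =>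
  ⟨fun h q => (gc_img (s q)).le_u (h (q + 1)), fun h q => match q with
    | 0 => bot_le
    | q + 1 => (gc_img (s q)).l_le (h q)⟩

theorem push_inf_le (s : ∀ q, G q ⟶ G (q + 1)) (Y Z : Fam G) :
    push s Y ⊓ Z ≤ push s (Y ⊓ pre s Z)
  | 0 => inf_le_left
  | q + 1 => img_inf_le (s q) (Y q) (Z (q + 1))

/-- The family generated by `G'` under one more operator. -/
noncomputable def genStep (s : ∀ q, G q ⟶ G (q + 1)) (G' : Fam G) : ∀ q, Subobject (G q)
  | 0 => G' 0
  | q + 1 => G' (q + 1) ⊔ img (s q) (genStep s G' q)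

/-- The elements of degree `< i` in the new operator. -/
noncomputable def fil (s : ∀ q, G q ⟶ G (q + 1)) (G' : Fam G) : ℕ → Fam G
  | 0 => ⊥
  | i + 1 => G' ⊔ push s (fil s G' i)

theorem genStep_le_fil (s : ∀ q, G q ⟶ G (q + 1)) (G' : Fam G) :
    ∀ q, genStep s G' q ≤ fil s G' (q + 1) q
  | 0 => le_sup_left (a := G' 0)
  | q + 1 => sup_le_sup_left ((gc_img (s q)).monotone_l (genStep_le_fil s G' q)) _

variable (t : ℕ → ∀ q, G q ⟶ G (q + 1))

/-- The family generated in degree zero by the first `d` operators. -/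
noncomputable def gen : ℕ → Fam G
  | 0 => fun q => match q with
    | 0 => ⊤
    | _ + 1 => ⊥
  | d + 1 => genStep (t d) (gen d)

/-- Stable under the first `d` operators. -/
def Stable (d : ℕ) (Z : Fam G) : Prop := ∀ j < d, push (t j) Z ≤ Z

theorem gen_zero (d : ℕ) : gen t d 0 = ⊤ := by
  induction d with
  | zero => rfl
  | succ d ih => exact ih

theorem gen_succ_ge (d q : ℕ) : gen t d q ≤ gen t (d + 1) q := by
  cases q with
  | zero => exact le_rfl
  | succ q => exact le_sup_left

variable (hcomm : ∀ j k q, t j q ≫ t k (q + 1) = t k q ≫ t j (q + 1))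

include hcomm in
theorem push_comm (j k : ℕ) (Z : Fam G) : push (t j) (push (t k) Z) = push (t k) (push (t j) Z) := by
  funext q
  rcases q with - | - | q
  · rfl
  · change img _ ⊥ = img _ ⊥
    rw [(gc_img _).l_bot, (gc_img _).l_bot]
  · change img _ (img _ _) = img _ (img _ _)
    rw [img_img, img_img, hcomm]

include hcomm in
theorem stable_gen : ∀ d, Stable t d (gen t d)
  | 0 => fun j hj => absurd hj (Nat.not_lt_zero j)
  | d + 1 => fun j hj q => match q with
    | 0 => bot_le
    | q + 1 => by
      rcases Nat.lt_succ_iff_lt_or_eq.1 hj with hjd | rfl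
      · change img (t j q) (genStep (t d) (gen t d) q) ≤ _
        induction q with
        | zero => exact (stable_gen d j hjd 1).trans le_sup_left
        | succ q ih =>
          refine ((gc_img (t j (q + 1))).l_sup).le.trans (sup_le ?_ ?_)
          · exact (stable_gen d j hjd (q + 2)).trans le_sup_left
          · rw [img_img, ← hcomm j d q, ← img_img]
            exact ((gc_img (t d (q + 1))).monotone_l ih).trans le_sup_right
      · exact le_sup_right

theorem stable_bot (d : ℕ) : Stable t d (⊥ : Fam G) := fun j _ => (gc_push (t j)).l_bot.le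

theorem stable_sup {d : ℕ} {Y Z : Fam G} (hY : Stable t d Y) (hZ : Stable t d Z) :
    Stable t d (Y ⊔ Z) := fun j hj =>
  (gc_push (t j)).l_sup.le.trans (sup_le_sup (hY j hj) (hZ j hj))

theorem stable_inf {d : ℕ} {Y Z : Fam G} (hY : Stable t d Y) (hZ : Stable t d Z) :
    Stable t d (Y ⊓ Z) := fun j hj =>
  le_inf (((gc_push (t j)).monotone_l inf_le_left).trans (hY j hj))
    (((gc_push (t j)).monotone_l inf_le_right).trans (hZ j hj))

include hcomm in
theorem stable_push {d : ℕ} (k : ℕ) {Z : Fam G} (hZ : Stable t d Z) :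
    Stable t d (push (t k) Z) := fun j hj => by
  rw [push_comm t hcomm]
  exact (gc_push (t k)).monotone_l (hZ j hj)

include hcomm in
theorem stable_pre {d : ℕ} (k : ℕ) {Z : Fam G} (hZ : Stable t d Z) :
    Stable t d (pre (t k) Z) := fun j hj => by
  refine (gc_push (t k)).le_u ?_
  rw [push_comm t hcomm]
  exact ((gc_push (t j)).monotone_l ((gc_push (t k)).l_u_le Z)).trans (hZ j hj)

include hcomm in
/-- Hilbert's basis theorem. -/
theorem acc_stable (h0 : IsNoetherianObject (G 0)) :
    ∀ d, WellFoundedGT {N : Fam G // N ≤ gen t d ∧ Stable t d N}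
  | 0 => by
    have h : StrictMono fun N : {N : Fam G // N ≤ gen t 0 ∧ Stable t 0 N} => N.1 0 := by
      intro N N' hlt
      refine lt_of_le_of_ne (hlt.le 0) fun e => hlt.not_ge ?_
      intro q
      cases q with
      | zero => exact e.ge
      | succ q => exact (N'.2.1 (q + 1)).trans bot_le
    exact h.wellFoundedGT
  | d + 1 => by
    have := acc_stable h0 d
    rw [wellFoundedGT_iff_monotone_chain_condition]
    intro M
    let M' : ℕ →o Fam G := ⟨fun k => (M k).1, fun a b hab => M.monotone hab⟩
    obtain ⟨k₀, hk₀⟩ := Hilb.step (push (t d)) (pre (t d)) (gc_push (t d)) (push_inf_le (t d))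
      (Stable t d) (fun Z => stable_pre t hcomm d) (fun Z => stable_push t hcomm d)
      (fun Y Z => stable_sup t) (fun Y Z => stable_inf t) (stable_bot t d) (gen t d)
      (stable_gen t hcomm d) (fil (t d) (gen t d)) rfl (fun i => rfl) M'
      (fun k => ⟨fun j hj => (M k).2.2 j (hj.trans (Nat.lt_succ_self d)),
        (M k).2.2 d (Nat.lt_succ_self d)⟩)
    refine ⟨k₀, fun k hk => le_antisymm (M.monotone hk) fun q => ?_⟩
    exact (le_inf le_rfl (((M k).2.1 q).trans (genStep_le_fil _ _ q))).trans (hk₀ k hk (q + 1) q)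

end Groth.Agent.AR.Gr
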