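import Groth.Agent.Lib.ARSys.Adapted
import Groth.Agent.Lib.ARSys.Graded
import Mathlib.RingTheory.Noetherian.Basic

/-!
# The strict graded object of an adic system with Noetherian terms is Noetherian
-/

set_option autoImplicit false

universe w v u

open CategoryTheory CategoryTheory.Limits Opposite

namespace Groth.Agent.AR

open ARSys

variable {C : Type u} [Category.{v} C] [Abelian C] {A : Type w} [CommRing A] [Linear A C]
  {J : Ideal A}

theorem factors_of_comp_cokernel {X W : C} {S : Subobject X} (x : W ⟶ X)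
    (h : x ≫ cokernel.π S.arrow = 0) : S.Factors x := by
  obtain ⟨W', π, hπ, z, hz⟩ := (ShortComplex.exact_of_g_is_cokernel
    (ShortComplex.mk _ _ (cokernel.condition S.arrow))
    (cokernelIsCokernel _)).exact_up_to_refinements x h
  change π ≫ x = z ≫ S.arrow at hz
  exact factors_of_epi_comp π x (hz ▸ factors_comp_arrow _ _)

/-- Chains of graded submodules are stationary. -/
theorem grSub_chain_stationary [IsNoetherianRing A] {X : PS C} (hX : IsAdicNoeth J X)
    (M : ℕ → (q : ℕ) → Subobject (X.obj (op q))) (hM : ∀ i, IsGrSub J X (M i))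
    (hmono : Monotone M) : ∃ i₀ : ℕ, ∀ i, i₀ ≤ i → M i = M i₀ := by
  have hs := isAdic_isStrict hX.1
  have hA := isAdapted_of_isAdic hX.1
  obtain ⟨d, g, hg, hgen⟩ : ∃ (d : ℕ) (g : ℕ → A), (∀ j, g j ∈ J) ∧
      J = Ideal.span (g '' Set.Iio d) := by
    obtain ⟨s, hs⟩ := IsNoetherian.noetherian J
    let g : ℕ → A := fun j => if h : j < s.card then (s.equivFin.symm ⟨j, h⟩ : A) else 0
    have hmem : ∀ j, g j ∈ J := fun j => by
      simp only [g]
      split_ifs
      · rw [← hs]; exact Submodule.subset_span (Subtype.coe_prop _)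
      · exact zero_mem _
    refine ⟨s.card, g, hmem, le_antisymm ?_ (Ideal.span_le.2 (by rintro _ ⟨j, -, rfl⟩; exact hmem j))⟩
    conv_lhs => rw [← hs]
    refine Submodule.span_mono fun a ha => ⟨(s.equivFin ⟨a, ha⟩ : ℕ), (s.equivFin ⟨a, ha⟩).2, ?_⟩
    simp [g]
  have key := fun (j q : ℕ) => exists_mul hs hA (Nat.le_succ q) (show q + 1 ≤ 1 + q by omega)
    (show g j ∈ J ^ 1 by simpa using hg j)
  choose t ht using key
  have hcomm : ∀ j k q, t j q ≫ t k (q + 1) = t k q ≫ t j (q + 1) := by
    have e : ∀ j k q, tr X ((Nat.le_succ q).trans (Nat.le_succ (q + 1))) ≫ t j q ≫ t k (q + 1) =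
        (g j * g k) • 𝟙 (X.obj (op (q + 2))) := fun j k q => by
      rw [← tr_tr X (Nat.le_succ q) (Nat.le_succ (q + 1)), Category.assoc,
        reassoc_of% (ht j q), Linear.smul_comp, Category.id_comp, Linear.comp_smul, ht k (q + 1),
        smul_smul]
    intro j k q
    have := hs q (q + 2) ((Nat.le_succ q).trans (Nat.le_succ (q + 1)))
    rw [← cancel_epi (tr X ((Nat.le_succ q).trans (Nat.le_succ (q + 1)))), e, e, mul_comm]
  let G : ℕ → C := fun q => X.obj (op q)
  have hstab : ∀ i, Gr.Stable (G := G) t d (M i) := by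
    intro i j _ q
    rcases q with - | q
    · exact bot_le
    refine (gc_img (t j q)).l_le (le_iff_factors.2 ((preim_factors _ _ _).2 ?_))
    have := hs q (q + 1) (Nat.le_succ q)
    obtain ⟨W, π, hπ, y, hy⟩ := surjective_up_to_refinements_of_epi (tr X (Nat.le_succ q)) (M i q).arrow
    refine factors_of_epi_comp π _ ?_
    rw [reassoc_of% hy, ht, Linear.comp_smul, Category.comp_id]
    exact isGrSub_apply (hM i) (p := 1) (Nat.add_comm 1 q) _ (by simpa using hg j) y
      (hy ▸ Subobject.factors_of_factors_right _ (factors_arrow_of_le le_rfl))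
  have hpow : ∀ q, ∀ a ∈ J ^ q, (Gr.gen (G := G) t d q).Factors (a • 𝟙 (X.obj (op q))) := by
    intro q
    induction q with
    | zero => intro a _; rw [Gr.gen_zero]; exact Subobject.top_factors _
    | succ q ih =>
      intro a ha
      rw [pow_succ] at ha
      refine Submodule.mul_induction_on ha (fun b hb c hc => ?_)
        (fun x y hx hy => by rw [add_smul]; exact Subobject.factors_add _ _ hx hy)
      ·
        have : ∀ ⦃T : C⦄ (x : T ⟶ X.obj (op (q + 1))),
            (Gr.gen (G := G) t d q).Factors (x ≫ tr X (Nat.le_succ q)) →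
              (Gr.gen (G := G) t d (q + 1)).Factors (c • x) := by
          rw [hgen] at hc
          induction hc using Submodule.span_induction with
          | mem z hz =>
            obtain ⟨j, hj, rfl⟩ := hz
            intro T x hx
            have h1 : (img (t j q) (Gr.gen (G := G) t d q)).Factors ((x ≫ tr X (Nat.le_succ q)) ≫ t j q) :=
              img_factors _ hx
            rw [Category.assoc, ht, Linear.comp_smul, Category.comp_id] at h1
            exact Subobject.factors_of_le _ (Gr.stable_gen t hcomm d j hj (q + 1)) h1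
          | zero => intro T x _; rw [zero_smul]; exact Subobject.factors_zero
          | add y z _ _ hy hz =>
            intro T x hx; rw [add_smul]; exact Subobject.factors_add _ _ (hy x hx) (hz x hx)
          | smul r z _ hz => intro T x hx; rw [smul_eq_mul, mul_smul]; exact factors_smul r (hz x hx)
        rw [mul_comm b c, mul_smul]
        refine this _ ?_
        rw [Linear.smul_comp, Category.id_comp, ← Category.comp_id (tr X _), ← Linear.comp_smul]
        exact Subobject.factors_of_factors_right _ (ih b hb)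
  have hF : ∀ q, Fsub X q q ≤ Gr.gen (G := G) t d q := by
    intro q
    rcases q with - | k
    · rw [Gr.gen_zero]; exact le_top
    refine le_iff_factors.2 (factors_of_comp_cokernel _ ?_)
    have hk : HomKilledBy (J ^ (k + 1)) (cokernel.π (Gr.gen (G := G) t d (k + 1)).arrow) := fun a ha => by
      rw [← Category.id_comp (cokernel.π _), ← Linear.smul_comp,
        ← Subobject.factorThru_arrow _ _ (hpow (k + 1) a ha), Category.assoc, cokernel.condition,
        comp_zero]
    rw [← quotDesc_fac (hX.1.2 k (k + 1) (Nat.le_succ k)) _ hk, ← Category.assoc, fsub_arrow_tr,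
      zero_comp]
  have := Gr.acc_stable (G := G) t hcomm (hX.2 0) d
  let M' : ℕ →o {N : Gr.Fam G // N ≤ Gr.gen t d ∧ Gr.Stable t d N} :=
    ⟨fun i => ⟨M i, fun q => ((hM i).1 q).trans (hF q), hstab i⟩, fun a b hab => hmono hab⟩
  obtain ⟨i₀, hi₀⟩ := wellFoundedGT_iff_monotone_chain_condition.1 this M'
  exact ⟨i₀, fun i hi => (congrArg Subtype.val (hi₀ i hi)).symm⟩

/-- The graded family cut out by a subsystem. -/
noncomputable def grOf {Z X : PS C} (ι : Z ⟶ X) (q : ℕ) : Subobject (X.obj (op q)) :=
  imageSubobject (ι.app (op q)) ⊓ Fsub X q q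

theorem factors_image_iff {Y X W : C} (f : Y ⟶ X) (x : W ⟶ X) :
    (imageSubobject f).Factors x ↔
      ∃ (W' : C) (π : W' ⟶ W) (_ : Epi π) (z : W' ⟶ Y), π ≫ x = z ≫ f := by
  rw [← image_le_subobject_iff, image_le_iff]

theorem smul_eq_of_tr_eq {X : PS C} (hs : IsStrict X) (hA : IsAdapted J X) {p q m : ℕ} (h : q ≤ m)
    (hm : m ≤ p + q) {a : A} (ha : a ∈ J ^ p) {W : C} {x y : W ⟶ X.obj (op m)}
    (e : x ≫ tr X h = y ≫ tr X h) : a • x = a • y := by
  obtain ⟨μ, hμ⟩ := exists_mul hs hA h hm ha
  rw [← Category.comp_id x, ← Category.comp_id y, ← Linear.comp_smul, ← Linear.comp_smul, ← hμ,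
    ← Category.assoc, e, Category.assoc]

theorem isGrSub_grOf {Z X : PS C} (hs : IsStrict X) (hA : IsAdapted J X) (ι : Z ⟶ X)
    (hZ : IsStrict Z) : IsGrSub J X (grOf ι) := by
  refine isGrSub_of_factors (fun q => inf_le_right) fun p q h a ha T x hx => ?_
  obtain ⟨h1, h2⟩ := (Subobject.inf_factors _).1 hx
  refine (Subobject.inf_factors _).2 ⟨?_, fsub_self X (p + q) ▸ fsub_mul hs hA rfl h ha x (fsub_self X q ▸ h2)⟩
  obtain ⟨W, π, hπ, z, hz⟩ := (factors_image_iff _ _).1 h1
  have := hZ q (p + q) h
  obtain ⟨W', π', hπ', z', hz'⟩ := surjective_up_to_refinements_of_epi (tr Z h) z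
  refine (factors_image_iff _ _).2 ⟨W', π' ≫ π, inferInstance, a • z', ?_⟩
  rw [Linear.comp_smul, Linear.smul_comp]
  refine smul_eq_of_tr_eq hs hA h le_rfl ha ?_
  rw [Category.assoc, Category.assoc, hz, reassoc_of% hz', Category.assoc, tr_nat]

theorem image_le_of_grOf_le {Z Z' X : PS C} (ι : Z ⟶ X) (ι' : Z' ⟶ X) (hZ : IsStrict Z)
    (hle : ∀ q, imageSubobject (ι.app (op q)) ≤ imageSubobject (ι'.app (op q)))
    (hgr : ∀ q, grOf ι' q ≤ grOf ι q) :
    ∀ q, imageSubobject (ι'.app (op q)) ≤ imageSubobject (ι.app (op q)) := by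
  intro q
  induction q with
  | zero => exact ((le_inf le_rfl le_top).trans (hgr 0)).trans inf_le_left
  | succ q ih =>
    refine (image_le_iff _ _).2 ?_
    obtain ⟨W, π, hπ, z, hz⟩ := (image_le_iff (tr Z' (Nat.le_succ q) ≫ ι'.app (op q))
      (ι.app (op q))).1 ((imageSubobject_comp_le _ _).trans ih)
    rw [tr_nat] at hz
    have := hZ q (q + 1) (Nat.le_succ q)
    obtain ⟨W', π', hπ', y, hy⟩ := surjective_up_to_refinements_of_epi (tr Z (Nat.le_succ q)) z
    let e := π' ≫ π ≫ ι'.app (op (q + 1)) - y ≫ ι.app (op (q + 1))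
    have he : (grOf ι' (q + 1)).Factors e := by
      refine (Subobject.inf_factors _).2 ⟨?_, ?_⟩
      · refine factors_sub ?_ ?_
        · rw [← Category.assoc]
          exact (factors_image_iff _ _).2 ⟨W', 𝟙 _, inferInstance, π' ≫ π, by simp⟩
        · exact Subobject.factors_of_le _ (hle (q + 1))
            ((factors_image_iff _ _).2 ⟨W', 𝟙 _, inferInstance, y, by simp⟩)
      · rw [fsub_self, fker_factors_iff]
        rw [Preadditive.sub_comp, Category.assoc, Category.assoc, Category.assoc, hz, reassoc_of% hy,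
          tr_nat, sub_self]
    obtain ⟨W'', π'', hπ'', u, hu⟩ :=
      (factors_image_iff _ _).1 ((Subobject.inf_factors _).1 (Subobject.factors_of_le _ (hgr _) he)).1
    refine ⟨W'', π'' ≫ π' ≫ π, inferInstance, u + π'' ≫ y, ?_⟩
    rw [Preadditive.add_comp, Category.assoc, Category.assoc, Category.assoc, ← hu]
    simp [e, Preadditive.comp_sub]

theorem subobject_le_of_image_le {X : PS C} {S S' : Subobject X}
    (h : ∀ q, imageSubobject (S.arrow.app (op q)) ≤ imageSubobject (S'.arrow.app (op q))) :
    S ≤ S' := by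
  have hm : ∀ q, Mono (S'.arrow.app (op q)) := fun q => mono_app _ q
  have lift : ∀ q, ∃ f, f ≫ S'.arrow.app (op q) = S.arrow.app (op q) := fun q => by
    have e : imageSubobject (S'.arrow.app (op q)) = Subobject.mk (S'.arrow.app (op q)) :=
      imageSubobject_mono _
    have := (image_le_subobject_iff _ _).1 ((h q).trans e.le)
    exact (Subobject.mk_factors_iff _ _).1 this
  choose f hf using lift
  refine Subobject.le_of_comm (mkHom f fun {n m} hnm => ?_) ?_
  · rw [← cancel_mono (S'.arrow.app (op n)), Category.assoc, Category.assoc, hf, tr_nat, tr_nat,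
      ← Category.assoc, hf]
  · ext ⟨q⟩; exact hf q

/-- Chains of strict subsystems are stationary. -/
theorem strict_chain_stationary [IsNoetherianRing A] {X : PS C} (hX : IsAdicNoeth J X)
    (Z : ℕ →o Subobject X) (hZ : ∀ k, IsStrict ((Subobject.underlying.obj (Z k) : PS C))) :
    ∃ k₀ : ℕ, ∀ k, k₀ ≤ k → Z k = Z k₀ := by
  have hs := isAdic_isStrict hX.1
  have hA := isAdapted_of_isAdic hX.1
  have hle : ∀ {a b : ℕ}, a ≤ b → ∀ q,
      imageSubobject ((Z a).arrow.app (op q)) ≤ imageSubobject ((Z b).arrow.app (op q)) := fun hab q => by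
    rw [← Subobject.ofLE_arrow (Z.monotone hab), NatTrans.comp_app]
    exact imageSubobject_comp_le _ _
  obtain ⟨k₀, hk₀⟩ := grSub_chain_stationary hX (fun k => grOf (Z k).arrow)
    (fun k => isGrSub_grOf hs hA _ (hZ k)) (fun a b hab q => inf_le_inf_right _ (hle hab q))
  exact ⟨k₀, fun k hk => le_antisymm
    (subobject_le_of_image_le (image_le_of_grOf_le _ _ (hZ k₀) (hle hk)
      fun q => (congrFun (hk₀ k hk) q).le))
    (Z.monotone hk)⟩

/-- A strict subsystem of an adic Noetherian system is adic up to translation. -/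
theorem isARAdic_of_strict_sub [IsNoetherianRing A] {X Z : PS C} (hX : IsAdicNoeth J X)
    (ι : Z ⟶ X) [Mono ι] (hZ : IsStrict Z) : IsARAdic J Z := by
  have hs := isAdic_isStrict hX.1
  have hA := isAdapted_of_isAdic hX.1
  have hm : ∀ q, Mono (ι.app (op q)) := fun q => mono_app ι q
  have hAZ : IsAdapted J Z := fun n p hp a ha => by
    rw [← cancel_mono (ι.app (op n)), zero_comp, Category.assoc, Linear.smul_comp, Category.id_comp,
      ← Category.comp_id (ι.app _), ← Linear.comp_smul]
    have hf : (Fsub X (n + 1 - p) n).Factors ((Fsub Z (n + 1 - p) n).arrow ≫ ι.app (op n)) := by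
      rcases hk : n + 1 - p with - | k
      · exact Subobject.top_factors _
      · rw [fsub_succ X (show k ≤ n by omega), kernelSubobject_factors_iff, Category.assoc, ← tr_nat,
          ← Category.assoc, fsub_arrow_tr, zero_comp]
    rw [← Category.assoc, ← Subobject.factorThru_arrow _ _ hf, Category.assoc, hA n p hp a ha,
      comp_zero]
  refine isARAdic_of_finiteType (Or.inl (IsNoetherian.noetherian J)) hZ hAZ ?_
  intro M hM hmono hlub
  let N : ℕ → (q : ℕ) → Subobject (X.obj (op q)) := fun i q => img (ι.app (op q)) (M i q)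
  have hN : ∀ i, IsGrSub J X (N i) := fun i => by
    refine isGrSub_of_factors (fun q => ?_) fun p q h a ha T x hx => ?_
    · refine (image_le_subobject_iff _ _).2 ?_
      rcases q with - | k
      · exact Subobject.top_factors _
      · rw [fsub_self, fker_factors_iff, Category.assoc, ← tr_nat,
          ← Subobject.ofLE_arrow ((hM i).1 (k + 1)), Category.assoc,
          reassoc_of% (fsub_arrow_tr Z (Nat.le_succ k)), zero_comp, comp_zero]
    · obtain ⟨W, π, hπ, z, hzM, hz⟩ := (factors_img_iff _ _ _).1 hx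
      have := hZ q (p + q) h
      obtain ⟨W', π', hπ', z', hz'⟩ := surjective_up_to_refinements_of_epi (tr Z h) z
      refine (factors_img_iff _ _ _).2 ⟨W', π' ≫ π, inferInstance, a • z', ?_, ?_⟩
      · exact isGrSub_apply (hM i) rfl h ha z' (hz' ▸ Subobject.factors_of_factors_right _ hzM)
      · rw [Linear.comp_smul, Linear.smul_comp]
        refine smul_eq_of_tr_eq hs hA h le_rfl ha ?_
        rw [Category.assoc, Category.assoc, hz, reassoc_of% hz', Category.assoc, tr_nat]
  obtain ⟨i₀, hi₀⟩ := grSub_chain_stationary hX N hN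
    (fun a b hab q => (gc_img _).monotone_l (hmono hab q))
  refine ⟨i₀, fun q => le_antisymm ((hlub q).1 ⟨i₀, rfl⟩) ((hlub q).2 ?_)⟩
  rintro _ ⟨i, rfl⟩
  refine le_trans (hmono (le_max_left i i₀) q) (le_iff_factors.2 ?_)
  have h1 : (N i₀ q).Factors ((M (max i i₀) q).arrow ≫ ι.app (op q)) := by
    rw [← hi₀ (max i i₀) (le_max_right _ _)]
    exact img_factors _ (factors_arrow_of_le le_rfl)
  obtain ⟨W, π, hπ, z, hzM, hz⟩ := (factors_img_iff _ _ _).1 h1
  rw [← Category.assoc, cancel_mono] at hz
  exact factors_of_epi_comp π _ (hz ▸ hzM)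

end Groth.Agent.AR
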