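import Groth.Prelude.Def_ARSys
import Mathlib.CategoryTheory.Abelian.Refinements
import Mathlib.CategoryTheory.Limits.FunctorCategory.EpiMono
import Mathlib.Algebra.Homology.ShortComplex.ShortExact
import Mathlib.Algebra.Homology.ShortComplex.PreservesHomology
import Mathlib.CategoryTheory.Limits.Preserves.Finite

/-!
# Projective systems up to translation: pointwise criteria
-/

set_option autoImplicit false

universe w v u

open CategoryTheory CategoryTheory.Limits Opposite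

namespace Groth.Agent.AR

open ARSys

variable {C : Type u} [Category.{v} C]

@[simp] theorem tr_rfl (X : PS C) (n : ℕ) : tr X (le_refl n) = 𝟙 _ := X.map_id _

@[reassoc]
theorem tr_tr (X : PS C) {n m l : ℕ} (h : n ≤ m) (h' : m ≤ l) :
    tr X h' ≫ tr X h = tr X (h.trans h') := (X.map_comp _ _).symm

@[reassoc]
theorem tr_nat {X Y : PS C} (u : X ⟶ Y) {n m : ℕ} (h : n ≤ m) :
    tr X h ≫ u.app (op n) = u.app (op m) ≫ tr Y h := u.naturality _

/-- Naturality from the transition maps. -/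
theorem hom_natural {X Y : PS C} (f : ∀ n, X.obj (op n) ⟶ Y.obj (op n))
    (hf : ∀ {n m : ℕ} (h : n ≤ m), tr X h ≫ f n = f m ≫ tr Y h) ⦃a b : ℕᵒᵖ⦄ (g : a ⟶ b) :
    X.map g ≫ f b.unop = f a.unop ≫ Y.map g := hf (leOfHom g.unop)

/-- A morphism of systems from compatible components. -/
def mkHom {X Y : PS C} (f : ∀ n, X.obj (op n) ⟶ Y.obj (op n))
    (hf : ∀ {n m : ℕ} (h : n ≤ m), tr X h ≫ f n = f m ≫ tr Y h) : X ⟶ Y where
  app a := f a.unop
  naturality _ _ g := hom_natural f hf g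

@[simp] theorem mkHom_app {X Y : PS C} (f : ∀ n, X.obj (op n) ⟶ Y.obj (op n))
    (hf : ∀ {n m : ℕ} (h : n ≤ m), tr X h ≫ f n = f m ≫ tr Y h) (n : ℕ) :
    (mkHom f hf).app (op n) = f n := rfl

theorem shiftMap_eq (X : PS C) (r n : ℕ) : shiftMap X r n = tr X (Nat.le_add_right n r) := rfl

section Zero

variable [HasZeroMorphisms C]

theorem null_iff {X : PS C} :
    IsARNull X ↔ ∃ r, ∀ (n m : ℕ) (h : n + r ≤ m), tr X (Nat.le_of_add_right_le h) = 0 := by
  constructor
  · rintro ⟨r, hr⟩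
    refine ⟨r, fun n m h => ?_⟩
    rw [← tr_tr X (Nat.le_add_right n r) h, show tr X (Nat.le_add_right n r) = 0 from hr n, comp_zero]
  · rintro ⟨r, hr⟩
    exact ⟨r, fun n => hr n (n + r) le_rfl⟩

end Zero

section Abelian

variable [Abelian C]

theorem shortExact_app {S : ShortComplex (PS C)} (hS : S.ShortExact) (n : ℕ) :
    (S.map ((evaluation ℕᵒᵖ C).obj (op n))).ShortExact := hS.map_of_exact _

theorem exact_app {S : ShortComplex (PS C)} (hS : S.Exact) (n : ℕ) :
    (S.map ((evaluation ℕᵒᵖ C).obj (op n))).Exact := hS.map _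

@[reassoc]
theorem zero_app (S : ShortComplex (PS C)) (n : ℕ) : S.f.app (op n) ≫ S.g.app (op n) = 0 := by
  rw [← NatTrans.comp_app, S.zero]; rfl

/-- Exactness in degree `n`, up to refinements. -/
theorem lift_exact {S : ShortComplex (PS C)} (hS : S.Exact) {n : ℕ} {T : C}
    (x : T ⟶ S.X₂.obj (op n)) (hx : x ≫ S.g.app (op n) = 0) :
    ∃ (T' : C) (π : T' ⟶ T) (_ : Epi π) (z : T' ⟶ S.X₁.obj (op n)),
      π ≫ x = z ≫ S.f.app (op n) :=
  (exact_app hS n).exact_up_to_refinements x hx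

theorem mono_app {X Y : PS C} (f : X ⟶ Y) [Mono f] (n : ℕ) : Mono (f.app (op n)) :=
  inferInstanceAs (Mono (((evaluation ℕᵒᵖ C).obj (op n)).map f))

theorem epi_app {X Y : PS C} (f : X ⟶ Y) [Epi f] (n : ℕ) : Epi (f.app (op n)) :=
  inferInstanceAs (Epi (((evaluation ℕᵒᵖ C).obj (op n)).map f))

/-- The transition maps of the kernel vanish iff those of the source do on the kernel. -/
theorem tr_kernel_eq_zero_iff {X Y : PS C} (u : X ⟶ Y) {n m : ℕ} (h : n ≤ m) :
    tr (kernel u) h = 0 ↔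
      ∀ ⦃T : C⦄ (x : T ⟶ X.obj (op m)), x ≫ u.app (op m) = 0 → x ≫ tr X h = 0 := by
  have : Mono ((kernel.ι u).app (op n)) := mono_app _ n
  constructor
  · intro h0 T x hx
    have hk := exact_app ((ShortComplex.mk _ _ (kernel.condition u)).exact_of_f_is_kernel
      (kernelIsKernel u)) m
    obtain ⟨T', π, hπ, z, hz⟩ := hk.exact_up_to_refinements x hx
    change T' ⟶ (kernel u).obj (op m) at z
    change π ≫ x = z ≫ (kernel.ι u).app (op m) at hz
    rw [← cancel_epi π, ← Category.assoc, hz, Category.assoc, ← tr_nat, h0]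
    simp
  · intro hh
    rw [← cancel_mono ((kernel.ι u).app (op n)), zero_comp, tr_nat]
    refine hh _ ?_
    rw [← NatTrans.comp_app, kernel.condition]
    rfl

/-- The transition maps of the cokernel vanish iff those of the target land in the image. -/
theorem tr_cokernel_eq_zero_iff {X Y : PS C} (u : X ⟶ Y) {n m : ℕ} (h : n ≤ m) :
    tr (cokernel u) h = 0 ↔
      ∀ ⦃T : C⦄ (y : T ⟶ Y.obj (op m)), ∃ (T' : C) (π : T' ⟶ T) (_ : Epi π)
        (x : T' ⟶ X.obj (op n)), π ≫ y ≫ tr Y h = x ≫ u.app (op n) := by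
  have : Epi ((cokernel.π u).app (op m)) := epi_app _ m
  have hk := exact_app ((ShortComplex.mk _ _ (cokernel.condition u)).exact_of_g_is_cokernel
    (cokernelIsCokernel u)) n
  constructor
  · intro h0 T y
    have : (y ≫ tr Y h) ≫ (cokernel.π u).app (op n) = 0 := by
      rw [Category.assoc, tr_nat, h0]; simp
    exact hk.exact_up_to_refinements _ this
  · intro hh
    obtain ⟨T', π, hπ, x, hx⟩ := hh (𝟙 _)
    rw [Category.id_comp] at hx
    rw [← cancel_epi ((cokernel.π u).app (op m)), comp_zero, ← tr_nat, ← cancel_epi π,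
      ← Category.assoc, hx, Category.assoc, ← NatTrans.comp_app, cokernel.condition]
    simp

theorem kernelNull_iff {X Y : PS C} (u : X ⟶ Y) :
    IsARNull (kernel u) ↔ ∃ r, ∀ (n m : ℕ) (h : n + r ≤ m), ∀ ⦃T : C⦄ (x : T ⟶ X.obj (op m)),
      x ≫ u.app (op m) = 0 → x ≫ tr X (Nat.le_of_add_right_le h) = 0 := by
  simp only [null_iff, tr_kernel_eq_zero_iff]

theorem cokernelNull_iff {X Y : PS C} (u : X ⟶ Y) :
    IsARNull (cokernel u) ↔ ∃ r, ∀ (n m : ℕ) (h : n + r ≤ m), ∀ ⦃T : C⦄ (y : T ⟶ Y.obj (op m)),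
      ∃ (T' : C) (π : T' ⟶ T) (_ : Epi π) (x : T' ⟶ X.obj (op n)),
        π ≫ y ≫ tr Y (Nat.le_of_add_right_le h) = x ≫ u.app (op n) := by
  simp only [null_iff, tr_cokernel_eq_zero_iff]

/-- An inverse of `u` up to translation by `r`. -/
structure PInv {X Y : PS C} (u : X ⟶ Y) (r : ℕ) : Type v where
  /-- the components -/
  w : ∀ (n m : ℕ), n + r ≤ m → (Y.obj (op m) ⟶ X.obj (op n))
  nat : ∀ {n n' m m' : ℕ} (h : n + r ≤ m) (h' : n' + r ≤ m') (hn : n ≤ n') (hm : m ≤ m'),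
    tr Y hm ≫ w n m h = w n' m' h' ≫ tr X hn
  w_u : ∀ {n m : ℕ} (h : n + r ≤ m), w n m h ≫ u.app (op n) = tr Y (Nat.le_of_add_right_le h)
  u_w : ∀ {n m : ℕ} (h : n + r ≤ m), u.app (op m) ≫ w n m h = tr X (Nat.le_of_add_right_le h)

/-- `u` is invertible up to translation. -/
def HasPInv {X Y : PS C} (u : X ⟶ Y) : Prop := ∃ r, Nonempty (PInv u r)

theorem isARIso_of_pinv {X Y : PS C} {u : X ⟶ Y} {r : ℕ} (p : PInv u r) : IsARIso u := by
  refine ⟨(kernelNull_iff u).2 ⟨r, fun n m h T x hx => ?_⟩,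
    (cokernelNull_iff u).2 ⟨r, fun n m h T y => ⟨T, 𝟙 T, inferInstance, y ≫ p.w n m h, ?_⟩⟩⟩
  · rw [← p.u_w h, ← Category.assoc, hx, zero_comp]
  · simp [p.w_u]

theorem isARIso_iff {X Y : PS C} (u : X ⟶ Y) : IsARIso u ↔ HasPInv u := by
  refine ⟨fun ⟨hk, hc⟩ => ?_, fun ⟨r, ⟨p⟩⟩ => isARIso_of_pinv p⟩
  obtain ⟨s, hs⟩ := (kernelNull_iff u).1 hk
  obtain ⟨r, hr⟩ := (cokernelNull_iff u).1 hc
  -- the composite `tr` from `m` lands in the image at `n + s`; push down to `n`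
  have ex : ∀ (n m : ℕ) (h : n + (r + s) ≤ m),
      ∃ w : Y.obj (op m) ⟶ X.obj (op n), ∀ ⦃T : C⦄ (y : T ⟶ Y.obj (op m)) (x : T ⟶ X.obj (op (n + s))),
        y ≫ tr Y (show n + s ≤ m by omega) = x ≫ u.app (op (n + s)) →
          y ≫ w = x ≫ tr X (Nat.le_add_right n s) := by
    intro n m h
    obtain ⟨T, π, hπ, x, hx⟩ := hr (n + s) m (by omega) (𝟙 _)
    rw [Category.id_comp] at hx
    have hd : kernel.ι π ≫ x ≫ tr X (Nat.le_add_right n s) = 0 := by
      rw [← Category.assoc]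
      refine hs n (n + s) le_rfl _ ?_
      rw [Category.assoc, ← hx, kernel.condition_assoc, zero_comp]
    have hcok := Abelian.epiIsCokernelOfKernel (KernelFork.ofι (kernel.ι π) (kernel.condition π))
      (kernelIsKernel π)
    obtain ⟨w, hw⟩ := CokernelCofork.IsColimit.desc' hcok (x ≫ tr X (Nat.le_add_right n s)) hd
    change π ≫ w = _ at hw
    refine ⟨w, fun T' y x' hyx => ?_⟩
    -- compare on a refinement
    obtain ⟨T'', π', hπ', t, ht⟩ := surjective_up_to_refinements_of_epi π y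
    rw [← cancel_epi π', ← Category.assoc, ht, Category.assoc, hw, ← Category.assoc π',
      ← Category.assoc t, ← sub_eq_zero, ← Preadditive.sub_comp]
    refine hs n (n + s) le_rfl _ ?_
    rw [Preadditive.sub_comp, Category.assoc, Category.assoc, ← hx, ← hyx, sub_eq_zero,
      reassoc_of% ht]
  choose w hw using ex
  refine ⟨r + s, ⟨⟨w, fun {n n' m m'} h h' hn hm => ?_, fun {n m} h => ?_, fun {n m} h => ?_⟩⟩⟩
  · obtain ⟨T, π, hπ, x, hx⟩ := hr (n' + s) m' (by omega) (𝟙 _)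
    rw [Category.id_comp] at hx
    rw [← cancel_epi π, ← Category.assoc π, ← Category.assoc π,
      hw n m h (π ≫ tr Y hm) (x ≫ tr X (show n + s ≤ n' + s by omega))
        (by rw [Category.assoc, Category.assoc, tr_tr, tr_nat, ← reassoc_of% hx, tr_tr]),
      hw n' m' h' π x hx, Category.assoc, Category.assoc, tr_tr, tr_tr]
  · obtain ⟨T, π, hπ, x, hx⟩ := hr (n + s) m (by omega) (𝟙 _)
    rw [Category.id_comp] at hx
    rw [← cancel_epi π, ← Category.assoc, hw n m h π x hx, Category.assoc, tr_nat, ← reassoc_of% hx,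
      tr_tr]
  · rw [hw n m h (u.app (op m)) (tr X (show n + s ≤ m by omega)) (tr_nat u _).symm, tr_tr]

theorem hasPInv_comp {X Y Z : PS C} {u : X ⟶ Y} {v : Y ⟶ Z} (hu : HasPInv u) (hv : HasPInv v) :
    HasPInv (u ≫ v) := by
  obtain ⟨r, ⟨p⟩⟩ := hu
  obtain ⟨s, ⟨q⟩⟩ := hv
  refine ⟨r + s, ⟨⟨fun n m h => q.w (n + r) m (by omega) ≫ p.w n (n + r) le_rfl,
    fun {n n' m m'} h h' hn hm => ?_, fun {n m} h => ?_, fun {n m} h => ?_⟩⟩⟩
  · rw [← Category.assoc, q.nat (by omega) (show n' + r + s ≤ m' by omega)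
      (show n + r ≤ n' + r by omega) hm, Category.assoc, p.nat le_rfl le_rfl hn, Category.assoc]
  · rw [NatTrans.comp_app, Category.assoc, reassoc_of% (p.w_u (n := n) le_rfl), tr_nat,
      ← Category.assoc, q.w_u, tr_tr]
  · rw [NatTrans.comp_app, Category.assoc, ← Category.assoc (v.app _), q.u_w, ← Category.assoc,
      ← tr_nat, Category.assoc, p.u_w, tr_tr]

theorem hasPInv_iso {X Y : PS C} (u : X ⟶ Y) [IsIso u] : HasPInv u := by
  refine ⟨0, ⟨⟨fun n m h => tr Y (show n ≤ m by omega) ≫ (inv u).app (op n),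
    fun {n n' m m'} h h' hn hm => ?_, fun {n m} h => ?_, fun {n m} h => ?_⟩⟩⟩
  · rw [tr_tr_assoc, Category.assoc, ← tr_nat, tr_tr_assoc]
  · rw [Category.assoc, ← NatTrans.comp_app, IsIso.inv_hom_id]; simp
  · rw [← Category.assoc, ← tr_nat, Category.assoc, ← NatTrans.comp_app, IsIso.hom_inv_id]; simp

theorem isARIso_comp {X Y Z : PS C} {u : X ⟶ Y} {v : Y ⟶ Z} (hu : IsARIso u) (hv : IsARIso v) :
    IsARIso (u ≫ v) :=
  (isARIso_iff _).2 (hasPInv_comp ((isARIso_iff _).1 hu) ((isARIso_iff _).1 hv))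

end Abelian

end Groth.Agent.AR
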