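import Groth.Agent.Lib.ARSys.Basic

/-!
# Images and the uniform Mittag-Leffler condition
-/

set_option autoImplicit false

universe w v u

open CategoryTheory CategoryTheory.Limits Opposite

namespace Groth.Agent.AR

open ARSys

variable {C : Type u} [Category.{v} C] [Abelian C]

theorem imageSubobject_comp_epi {A B D : C} (π : A ⟶ B) [Epi π] (f : B ⟶ D) :
    imageSubobject (π ≫ f) = imageSubobject f := by
  have := isIso_of_mono_of_epi (Subobject.ofLE _ _ (imageSubobject_comp_le π f))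
  exact le_antisymm (imageSubobject_comp_le π f)
    (Subobject.le_of_comm (inv (Subobject.ofLE _ _ (imageSubobject_comp_le π f))) (by simp))

/-- Comparison of images, up to refinements. -/
theorem image_le_iff {A B D : C} (f : A ⟶ D) (g : B ⟶ D) :
    imageSubobject f ≤ imageSubobject g ↔
      ∃ (T : C) (π : T ⟶ A) (_ : Epi π) (z : T ⟶ B), π ≫ f = z ≫ g := by
  constructor
  · intro h
    obtain ⟨T, π, hπ, z, hz⟩ := surjective_up_to_refinements_of_epi (factorThruImageSubobject g)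
      (factorThruImageSubobject f ≫ Subobject.ofLE _ _ h)
    refine ⟨T, π, hπ, z, ?_⟩
    have := hz =≫ (imageSubobject g).arrow
    simpa using this
  · rintro ⟨T, π, hπ, z, hz⟩
    rw [← imageSubobject_comp_epi π f, hz]
    exact imageSubobject_comp_le z g

theorem image_le_subobject_iff {A D : C} (f : A ⟶ D) (S : Subobject D) :
    imageSubobject f ≤ S ↔ S.Factors f := by
  refine ⟨fun h => Subobject.factors_of_le f h
      ((Subobject.factors_iff _ _).2 ⟨factorThruImageSubobject f, by simp⟩), fun h => ?_⟩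
  exact imageSubobject_le f (S.factorThru f h) (by simp)

/-- The image of `X[s] ⟶ X` in degree `n`, in terms of transition maps. -/
theorem image_shiftMap_eq (X : PS C) (s n : ℕ) :
    imageSubobject (shiftMap X s n) = imageSubobject (tr X (Nat.le_add_right n s)) := rfl

theorem image_shiftMap_anti (X : PS C) {n r s : ℕ} (h : r ≤ s) :
    imageSubobject (shiftMap X s n) ≤ imageSubobject (shiftMap X r n) := by
  have : shiftMap X s n = tr X (show n + r ≤ n + s by omega) ≫ shiftMap X r n := (tr_tr X _ _).symm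
  rw [this]
  exact imageSubobject_comp_le _ _

/-- The uniform Mittag-Leffler condition in terms of lifts up to refinement. -/
theorem isMLAR_iff {X : PS C} :
    IsMLAR X ↔ ∃ r, ∀ (n m : ℕ) (h : n + r ≤ m) ⦃T : C⦄ (x : T ⟶ X.obj (op (n + r))),
      ∃ (T' : C) (π : T' ⟶ T) (_ : Epi π) (z : T' ⟶ X.obj (op m)),
        π ≫ x ≫ tr X (Nat.le_add_right n r) = z ≫ tr X (Nat.le_of_add_right_le h) := by
  constructor
  · rintro ⟨r, hr⟩
    refine ⟨r, fun n m h T x => ?_⟩
    obtain ⟨s, rfl⟩ : ∃ s, m = n + s := ⟨m - n, by omega⟩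
    obtain ⟨T₀, π₀, hπ₀, z₀, hz₀⟩ := (image_le_iff (tr X (Nat.le_add_right n r))
      (tr X (Nat.le_add_right n s))).1 (hr s (by omega) n).ge
    obtain ⟨T', π, hπ, y, hy⟩ := surjective_up_to_refinements_of_epi π₀ x
    refine ⟨T', π, hπ, y ≫ z₀, ?_⟩
    rw [reassoc_of% hy, hz₀, Category.assoc]
  · rintro ⟨r, hr⟩
    refine ⟨r, fun s hs n => le_antisymm (image_shiftMap_anti X hs)
      ((image_le_iff (tr X (Nat.le_add_right n r)) (tr X (Nat.le_add_right n s))).2 ?_)⟩
    obtain ⟨T', π, hπ, z, hz⟩ := hr n (n + s) (by omega) (𝟙 _)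
    exact ⟨T', π, hπ, z, by simpa using hz⟩

/-- A version with arbitrary indices. -/
theorem MLAR_lift {X : PS C} {r : ℕ}
    (hr : ∀ (n m : ℕ) (_ : n + r ≤ m) ⦃T : C⦄ (x : T ⟶ X.obj (op (n + r))),
      ∃ (T' : C) (π : T' ⟶ T) (_ : Epi π) (z : T' ⟶ X.obj (op m)),
        π ≫ x ≫ tr X (Nat.le_add_right n r) = z ≫ tr X (show n ≤ m by omega))
    {n k : ℕ} (hk : n + r ≤ k) {m : ℕ} (hm : n ≤ m) {T : C} (x : T ⟶ X.obj (op k)) :
    ∃ (T' : C) (π : T' ⟶ T) (_ : Epi π) (z : T' ⟶ X.obj (op m)),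
      π ≫ x ≫ tr X (show n ≤ k by omega) = z ≫ tr X hm := by
  obtain ⟨T', π, hπ, z, hz⟩ := hr n (m + r) (by omega) (x ≫ tr X hk)
  refine ⟨T', π, hπ, z ≫ tr X (Nat.le_add_right m r), ?_⟩
  rw [Category.assoc] at hz ⊢
  rw [tr_tr] at hz ⊢
  exact hz

end Groth.Agent.AR
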