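import Groth.Agent.Lib.ARSys.Quot
import Groth.Agent.Lib.ARSys.MLAR
import Mathlib.CategoryTheory.Subobject.NoetherianObject
import Mathlib.CategoryTheory.Subobject.ArtinianObject

/-!
# Noetherian and Artinian objects: extensions, and terms of adic systems
-/

set_option autoImplicit false

universe w v u

open CategoryTheory CategoryTheory.Limits Opposite ZeroObject

namespace Groth.Agent.AR

open ARSys

variable {C : Type u} [Category.{v} C] [Abelian C]

/-- The trace and the image of a subobject of the middle term. -/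
noncomputable def traceImage (S : ShortComplex C) (N : Subobject S.X₂) :
    Subobject S.X₁ × Subobject S.X₃ :=
  ((Subobject.pullback S.f).obj N, imageSubobject (N.arrow ≫ S.g))

theorem traceImage_strictMono {S : ShortComplex C} (hS : S.Exact) :
    StrictMono (traceImage S) := by
  intro N N' hlt
  have hle := hlt.le
  have hfac : N'.Factors N.arrow := Subobject.factors_of_le _ hle ((Subobject.factors_iff _ _).2 ⟨𝟙 _, by simp⟩)
  have h2 : imageSubobject (N.arrow ≫ S.g) ≤ imageSubobject (N'.arrow ≫ S.g) := by
    rw [← Subobject.ofLE_arrow hle, Category.assoc]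
    exact imageSubobject_comp_le _ _
  have h1 : (Subobject.pullback S.f).obj N ≤ (Subobject.pullback S.f).obj N' :=
    leOfHom ((Subobject.pullback S.f).map (homOfLE hle))
  refine lt_of_le_of_ne (Prod.le_def.2 ⟨h1, h2⟩) fun e => hlt.not_ge ?_
  obtain ⟨e1, e2⟩ := Prod.ext_iff.1 e
  simp only [traceImage] at e1 e2
  obtain ⟨T, π, hπ, z, hz⟩ := (image_le_iff (N'.arrow ≫ S.g) (N.arrow ≫ S.g)).1 e2.ge
  have hd : (π ≫ N'.arrow - z ≫ N.arrow) ≫ S.g = 0 := by
    rw [Preadditive.sub_comp, Category.assoc, Category.assoc, hz, sub_self]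
  obtain ⟨T', π', hπ', y, hy⟩ := hS.exact_up_to_refinements _ hd
  have hy' : N'.Factors (y ≫ S.f) := by
    rw [← hy, Preadditive.comp_sub, sub_eq_add_neg, ← Preadditive.neg_comp, ← Category.assoc, ← Category.assoc]
    exact Subobject.factors_add _ _
      (Subobject.factors_of_factors_right _ ((Subobject.factors_iff _ _).2 ⟨𝟙 _, by simp⟩))
      (Subobject.factors_of_factors_right _ hfac)
  rw [← Limits.pullback_factors_iff, ← e1, Limits.pullback_factors_iff] at hy'
  have : N.Factors (π' ≫ π ≫ N'.arrow) := by
    rw [← sub_add_cancel (π ≫ N'.arrow) (z ≫ N.arrow), Preadditive.comp_add, hy, ← Category.assoc π']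
    exact Subobject.factors_add _ _ hy'
      (Subobject.factors_of_factors_right _ ((Subobject.factors_iff _ _).2 ⟨𝟙 _, by simp⟩))
  rw [← image_le_subobject_iff, imageSubobject_comp_epi π', imageSubobject_comp_epi π,
    image_le_subobject_iff] at this
  exact Subobject.le_of_comm (N.factorThru _ this) (by simp)

theorem noetherian_middle {S : ShortComplex C} (hS : S.Exact)
    (h1 : IsNoetherianObject S.X₁) (h3 : IsNoetherianObject S.X₃) : IsNoetherianObject S.X₂ :=
  ⟨(traceImage_strictMono hS).wellFoundedGT⟩

theorem artinian_middle {S : ShortComplex C} (hS : S.Exact)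
    (h1 : IsArtinianObject S.X₁) (h3 : IsArtinianObject S.X₃) : IsArtinianObject S.X₂ :=
  ⟨(traceImage_strictMono hS).wellFoundedLT⟩

theorem exact_biprod (X Y : C) :
    (ShortComplex.mk (biprod.inl : X ⟶ X ⊞ Y) biprod.snd biprod.inl_snd).Exact :=
  (ShortComplex.Splitting.ofHasBinaryBiproduct X Y).exact

variable {A : Type w} [CommRing A] [Linear A C]

/-- A property stable under extensions holds for all terms of an adic system when it holds for
the term of degree zero. -/
theorem adic_terms (P : C → Prop) (hzero : ∀ X : C, IsZero X → P X)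
    (hext : ∀ S : ShortComplex C, S.Exact → P S.X₁ → P S.X₃ → P S.X₂)
    {J : Ideal A} (hfg : J.FG) {X : PS C} (hX : IsAdic J X) (h0 : P (X.obj (op 0))) :
    ∀ n, P (X.obj (op n)) := by
  classical
  intro n
  induction n with
  | zero => exact h0
  | succ n ih =>
    have hq0 := hX.2 0 (n + 1) (Nat.zero_le _)
    have key : ∀ s : Finset A, (↑s ⊆ ((J ^ (n + 1) : Ideal A) : Set A)) →
        ∃ (T : C) (f : T ⟶ X.obj (op (n + 1))), P T ∧
          ∀ (Y : C) (φ : X.obj (op (n + 1)) ⟶ Y), f ≫ φ = 0 ↔ ∀ a ∈ s, a • φ = 0 := by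
      intro s
      induction s using Finset.induction_on with
      | empty => exact fun _ => ⟨0, 0, hzero _ (isZero_zero C), fun Y φ => by simp⟩
      | insert a s _ ih' =>
        intro hs
        obtain ⟨T, f, hT, hf⟩ := ih' fun x hx => hs (by simp [hx])
        have ha : a ∈ J ^ (n + 1) := hs (by simp)
        have hk : HomKilledBy (J ^ (0 + 1)) (a • 𝟙 (X.obj (op (n + 1)))) := fun b hb => by
          rw [smul_smul]
          exact hX.1 (n + 1) _ (by
            rw [pow_succ' J (n + 1)]; exact Ideal.mul_mem_mul (by simpa using hb) ha)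
        refine ⟨T ⊞ X.obj (op 0), biprod.desc f (quotDesc hq0 _ hk),
          hext _ (exact_biprod T _) hT h0, fun Y φ => ?_⟩
        have := isQuot_epi hq0
        have h2 : quotDesc hq0 _ hk ≫ φ = 0 ↔ a • φ = 0 := by
          rw [← cancel_epi (tr X (Nat.zero_le (n + 1))), quotDesc_fac_assoc, comp_zero,
            Linear.smul_comp, Category.id_comp]
        rw [Finset.forall_mem_insert, ← hf, ← h2]
        constructor
        · intro h
          exact ⟨by simpa using biprod.inr ≫= h, by simpa using biprod.inl ≫= h⟩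
        · rintro ⟨h, h'⟩
          exact biprod.hom_ext' _ _ (by simpa using h') (by simpa using h)
    obtain ⟨s, hs⟩ := Ideal.FG.pow (n := n + 1) hfg
    change Ideal.span (s : Set A) = _ at hs
    obtain ⟨T, f, hT, hf⟩ := key s (hs ▸ Ideal.subset_span)
    have hq := hX.2 n (n + 1) (Nat.le_succ n)
    have hcok := isQuot_of_cokernel (I := J ^ (n + 1)) (s : Set A) hs f fun Y φ => by simpa using hf Y φ
    have hf0 : f ≫ tr X (Nat.le_succ n) = 0 := (hf _ _).2 fun a ha =>
      smul_eq_zero_of_killed_target (hX.1 n) _ a (hs ▸ Ideal.subset_span ha)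
    refine hext (ShortComplex.mk f (tr X (Nat.le_succ n)) hf0) ?_ hT ih
    rw [ShortComplex.exact_iff_exact_up_to_refinements]
    intro T' x hx
    refine (ShortComplex.exact_of_g_is_cokernel (ShortComplex.mk _ _ (cokernel.condition f))
      (cokernelIsCokernel f)).exact_up_to_refinements x ?_
    have := quotDesc_fac hq (cokernel.π f) (smul_eq_zero_of_killed_target hcok.1 _)
    change x ≫ cokernel.π f = 0
    rw [← this, ← Category.assoc]
    exact (congrArg (· ≫ _) hx).trans zero_comp

end Groth.Agent.AR
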