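import Groth.Agent.Lib.ARSys.AdicNoeth
import Groth.Agent.Lib.ARSys.Fin
import Groth.Agent.S3152
import Groth.Agent.S3156

/-!
# Kernels and cokernels of systems adic up to translation with Noetherian terms
-/

set_option autoImplicit false

universe w v u

open CategoryTheory CategoryTheory.Limits Opposite

namespace Groth.Agent.AR

open ARSys

variable {C : Type u} [Category.{v} C] [Abelian C]

theorem noeth_of_epi {X Y : C} (p : X ⟶ Y) [Epi p] (h : IsNoetherianObject X) :
    IsNoetherianObject Y := by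
  rw [isNoetherianObject_iff_monotone_chain_condition]
  intro f
  obtain ⟨n, hn⟩ := monotone_chain_condition_of_isNoetherianObject (X := X)
    ⟨fun k => preim p (f k), fun a b hab => (gc_img p).monotone_u (f.monotone hab)⟩
  refine ⟨n, fun m hm => le_antisymm (f.monotone hm) (le_iff_factors.2 ?_)⟩
  obtain ⟨W, π, hπ, z, hz⟩ := surjective_up_to_refinements_of_epi p (f m).arrow
  refine factors_of_epi_comp π _ ?_
  rw [hz, ← preim_factors]
  have e : preim p (f n) = preim p (f m) := hn m hm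
  rw [e, preim_factors, ← hz]
  exact Subobject.factors_of_factors_right _ (factors_arrow_of_le le_rfl)

/-- The uniform Mittag-Leffler condition only depends on the class up to translation. -/
theorem isMLAR_source {X Y : PS C} {u : X ⟶ Y} (hu : IsARIso u) (hY : IsMLAR Y) : IsMLAR X := by
  obtain ⟨r, ⟨P⟩⟩ := (isARIso_iff u).1 hu
  obtain ⟨r', hr'⟩ := isMLAR_iff.1 hY
  refine isMLAR_iff.2 ⟨r + r', fun n m h T x => ?_⟩
  obtain ⟨W, π, hπ, z, hz⟩ := MLAR_lift hr' (n := n + r) (k := n + (r + r')) (by omega)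
    (m := m + r) (by omega) (x ≫ u.app (op _))
  refine ⟨W, π, hπ, z ≫ P.w m (m + r) le_rfl, ?_⟩
  rw [Category.assoc] at hz
  rw [Category.assoc, ← P.nat (show n + r ≤ n + r from le_rfl) le_rfl (show n ≤ m by omega)
    (show n + r ≤ m + r by omega), ← reassoc_of% hz,
    ← reassoc_of% (tr_nat u (show n + r ≤ n + (r + r') by omega)), P.u_w, tr_tr]

variable {A : Type w} [CommRing A] [Linear A C] {J : Ideal A}

/-- Lifting along an isomorphism up to translation, from an adic source. -/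
theorem existsUnique_lift {Z Y Y' : PS C} (hZ : IsAdic J Z) {b : Y' ⟶ Y} (hb : IsARIso b)
    (hY' : TermKilled J Y') (v : Z ⟶ Y) : ∃! g : Z ⟶ Y', g ≫ b = v := by
  obtain ⟨r, ⟨P⟩⟩ := (isARIso_iff b).1 hb
  have key := fun n => (hZ.2 n (n + r) (Nat.le_add_right n r)).2 (Y'.obj (op n))
    (v.app (op (n + r)) ≫ P.w n (n + r) le_rfl) (smul_eq_zero_of_killed_target (hY' n) _)
  choose g hg _ using key
  refine ⟨mkHom g fun {n m} h => ?_, ?_, fun g' hg' => ?_⟩
  · have := isAdic_epi hZ (Nat.le_add_right m r)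
    rw [← cancel_epi (tr Z (Nat.le_add_right m r)), tr_tr_assoc, ← Category.assoc _ (g m), hg m,
      ← tr_tr_assoc Z (Nat.le_add_right n r) (Nat.add_le_add_right h r), hg n, Category.assoc,
      ← P.nat le_rfl le_rfl h (Nat.add_le_add_right h r),
      ← reassoc_of% (tr_nat v (Nat.add_le_add_right h r))]
  · ext ⟨n⟩
    have := isAdic_epi hZ (Nat.le_add_right n r)
    rw [← cancel_epi (tr Z (Nat.le_add_right n r)), NatTrans.comp_app, mkHom_app,
      reassoc_of% (hg n), P.w_u, ← tr_nat]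
  · ext ⟨n⟩
    have := isAdic_epi hZ (Nat.le_add_right n r)
    rw [← cancel_epi (tr Z (Nat.le_add_right n r)), mkHom_app, hg n, ← hg', NatTrans.comp_app,
      Category.assoc, P.u_w, tr_nat]

theorem isIso_of_isARIso {Y Y' : PS C} (hY : IsAdic J Y) (hY' : IsAdic J Y') {b : Y' ⟶ Y}
    (hb : IsARIso b) : IsIso b := by
  obtain ⟨g, hg, -⟩ := existsUnique_lift hY hb hY'.1 (𝟙 Y)
  refine ⟨g, (existsUnique_lift hY' hb hY'.1 b).unique ?_ (Category.id_comp b), hg⟩
  rw [Category.assoc, hg, Category.comp_id]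

theorem noeth_of_arIso {X Y : PS C} (hY : IsAdic J Y) {u : Y ⟶ X} (hu : IsARIso u)
    (hX : ∀ n, IsNoetherianObject (X.obj (op n))) (n : ℕ) : IsNoetherianObject (Y.obj (op n)) := by
  obtain ⟨r, ⟨P⟩⟩ := (isARIso_iff u).1 hu
  have := isAdic_epi hY (Nat.le_add_right n r)
  have : Epi (P.w n (n + r) le_rfl) := epi_of_epi_fac (P.u_w (n := n) le_rfl)
  exact noeth_of_epi (P.w n (n + r) le_rfl) (hX (n + r))

theorem isARIso_kernel_map {X Y X' Y' : PS C} (f : X ⟶ Y) (f' : X' ⟶ Y') (a : X ⟶ X') (b : Y ⟶ Y')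
    (w : f ≫ b = a ≫ f') (ha : IsARIso a) (hb : IsARIso b) : IsARIso (kernel.map f f' a b w) := by
  obtain ⟨ra, hra⟩ := (kernelNull_iff a).1 ha.1
  obtain ⟨rc, hrc⟩ := (cokernelNull_iff a).1 ha.2
  obtain ⟨rb, hrb⟩ := (kernelNull_iff b).1 hb.1
  refine ⟨(kernelNull_iff _).2 ⟨ra, fun n m h T x hx => ?_⟩,
    (cokernelNull_iff _).2 ⟨rb + rc, fun n m h T x => ?_⟩⟩
  · have := mono_app (kernel.ι f) n
    rw [← cancel_mono ((kernel.ι f).app (op n)), zero_comp, Category.assoc, tr_nat, ← Category.assoc]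
    refine hra n m h _ ?_
    have e := x ≫= congrArg (fun t => NatTrans.app t (op m))
      (show kernel.map f f' a b w ≫ kernel.ι f' = kernel.ι f ≫ a from kernel.lift_ι _ _ _)
    simp only [NatTrans.comp_app, reassoc_of% hx, zero_comp] at e
    rw [Category.assoc, ← e]
  · obtain ⟨W, π, hπ, y, hy⟩ := hrc (n + rb) m (by omega) (x ≫ (kernel.ι f').app (op m))
    rw [Category.assoc] at hy
    have h0 : (y ≫ f.app (op (n + rb))) ≫ b.app (op (n + rb)) = 0 := by
      have e := congrArg (fun t => NatTrans.app t (op (n + rb))) w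
      simp only [NatTrans.comp_app] at e
      rw [Category.assoc, e, ← reassoc_of% hy, tr_nat, ← NatTrans.comp_app_assoc, kernel.condition]
      simp
    have h1 : (y ≫ tr X (Nat.le_add_right n rb)) ≫ f.app (op n) = 0 := by
      rw [Category.assoc, tr_nat, ← Category.assoc]
      exact hrb n (n + rb) le_rfl _ h0
    obtain ⟨W', π', hπ', z, hz⟩ := lift_exact ((ShortComplex.mk _ _
      (kernel.condition f)).exact_of_f_is_kernel (kernelIsKernel f)) _ h1
    change π' ≫ y ≫ tr X _ = z ≫ (kernel.ι f).app (op n) at hz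
    refine ⟨W', π' ≫ π, inferInstance, z, ?_⟩
    have := mono_app (kernel.ι f') n
    have e := congrArg (fun t => NatTrans.app t (op n))
      (show kernel.map f f' a b w ≫ kernel.ι f' = kernel.ι f ≫ a from kernel.lift_ι _ _ _)
    simp only [NatTrans.comp_app] at e
    rw [← cancel_mono ((kernel.ι f').app (op n))]
    simp only [Category.assoc, e, tr_nat, ← reassoc_of% hz]
    rw [← reassoc_of% hy, tr_tr]

theorem isARIso_cokernel_map {X Y X' Y' : PS C} (f : X ⟶ Y) (f' : X' ⟶ Y') (a : X ⟶ X')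
    (b : Y ⟶ Y') (w : f ≫ b = a ≫ f') (ha : IsARIso a) (hb : IsARIso b) :
    IsARIso (cokernel.map f f' a b w) := by
  obtain ⟨rc, hrc⟩ := (cokernelNull_iff a).1 ha.2
  obtain ⟨rb, hrb⟩ := (kernelNull_iff b).1 hb.1
  obtain ⟨rd, hrd⟩ := (cokernelNull_iff b).1 hb.2
  have e : ∀ n, (cokernel.π f).app (op n) ≫ (cokernel.map f f' a b w).app (op n) =
      b.app (op n) ≫ (cokernel.π f').app (op n) := fun n => by
    rw [← NatTrans.comp_app, ← NatTrans.comp_app]
    exact congrArg (fun t => NatTrans.app t (op n)) (cokernel.π_desc _ _ _)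
  refine ⟨(kernelNull_iff _).2 ⟨rb + rc, fun n m h T z hz => ?_⟩,
    (cokernelNull_iff _).2 ⟨rd, fun n m h T z => ?_⟩⟩
  · have := epi_app (cokernel.π f) m
    obtain ⟨W, π, hπ, y, hy⟩ := surjective_up_to_refinements_of_epi ((cokernel.π f).app (op m)) z
    have h0 : (y ≫ b.app (op m)) ≫ (cokernel.π f').app (op m) = 0 := by
      rw [Category.assoc, ← e, ← reassoc_of% hy, hz, comp_zero]
    obtain ⟨W', π', hπ', x, hx⟩ := lift_exact ((ShortComplex.mk _ _
      (cokernel.condition f')).exact_of_g_is_cokernel (cokernelIsCokernel f')) _ h0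
    change π' ≫ y ≫ b.app (op m) = x ≫ f'.app (op m) at hx
    obtain ⟨W'', π'', hπ'', x', hx'⟩ := hrc (n + rb) m (by omega) x
    let d := π'' ≫ π' ≫ y ≫ tr Y (show n + rb ≤ m by omega) - x' ≫ f.app (op (n + rb))
    have hd : d ≫ b.app (op (n + rb)) = 0 := by
      have ew := congrArg (fun t => NatTrans.app t (op (n + rb))) w
      simp only [NatTrans.comp_app] at ew
      simp only [d, Preadditive.sub_comp, Category.assoc, ew]
      rw [tr_nat b, reassoc_of% hx, ← tr_nat f', reassoc_of% hx', sub_self]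
    have h1 : d ≫ tr Y (Nat.le_add_right n rb) = 0 := hrb n (n + rb) le_rfl _ hd
    simp only [d, Preadditive.sub_comp, Category.assoc, tr_tr, sub_eq_zero] at h1
    rw [← cancel_epi π, ← cancel_epi π', ← cancel_epi π'', reassoc_of% hy, ← tr_nat,
      reassoc_of% h1, ← tr_nat_assoc f]
    have hc : f.app (op n) ≫ (cokernel.π f).app (op n) = 0 :=
      zero_app (ShortComplex.mk _ _ (cokernel.condition f)) n
    simp [hc]
  · have := epi_app (cokernel.π f') m
    obtain ⟨W, π, hπ, y, hy⟩ := surjective_up_to_refinements_of_epi ((cokernel.π f').app (op m)) z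
    obtain ⟨W', π', hπ', x, hx⟩ := hrd n m h y
    refine ⟨W', π' ≫ π, inferInstance, x ≫ (cokernel.π f).app (op n), ?_⟩
    rw [Category.assoc, reassoc_of% hy, ← tr_nat, reassoc_of% hx, Category.assoc, e]

/-- The image of a map out of a strict system is strict. -/
theorem isStrict_of_epi {X Y : PS C} (p : X ⟶ Y) [Epi p] (hX : IsStrict X) : IsStrict Y := by
  intro n m h
  have := hX n m h
  have := epi_app p n
  have : Epi (tr X h ≫ p.app (op n)) := epi_comp _ _
  exact epi_of_epi_fac (tr_nat p h).symm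

theorem termKilled_of_mono {X Y : PS C} (f : X ⟶ Y) [Mono f] (hY : TermKilled J Y) :
    TermKilled J X := fun n => have := mono_app f n; killed_of_mono (f.app (op n)) (hY n)

theorem termKilled_of_epi {X Y : PS C} (f : X ⟶ Y) [Epi f] (hX : TermKilled J X) :
    TermKilled J Y := fun n => have := epi_app f n; killed_of_epi (f.app (op n)) (hX n)

theorem noeth_of_mono {X Y : PS C} (f : X ⟶ Y) [Mono f]
    (hY : ∀ n, IsNoetherianObject (Y.obj (op n))) (n : ℕ) : IsNoetherianObject (X.obj (op n)) := by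
  have := mono_app f n
  have := hY n
  exact isNoetherianObject_of_mono (f.app (op n))

variable [IsNoetherianRing A]

theorem hJ_of_noeth (J : Ideal A) : J.FG ∨ HasCoproducts.{w} C :=
  Or.inl (IsNoetherian.noetherian J)

theorem kernel_cokernel_adic {Y Y' : PS C} (g : Y ⟶ Y') (hY : IsAdicNoeth J Y)
    (hY' : IsAdicNoeth J Y') :
    IsARAdicNoeth J (kernel g) ∧ IsAdicNoeth J (cokernel g) := by
  let S₁ := ShortComplex.mk (kernel.ι g) (Abelian.factorThruImage g)
    (by rw [← cancel_mono (Abelian.image.ι g), Category.assoc, Abelian.image.fac, kernel.condition,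
      zero_comp])
  have hS₁ : S₁.ShortExact :=
    { exact := S₁.exact_of_f_is_kernel (isKernelOfComp _ _ (kernelIsKernel g) S₁.zero
        (Abelian.image.fac g)) }
  let S₂ := ShortComplex.mk (Abelian.image.ι g) (cokernel.π g) (kernel.condition _)
  have hS₂ : S₂.ShortExact :=
    { exact := S₂.exact_of_f_is_kernel (kernelIsKernel _) }
  have hI : IsStrict (Abelian.image g) :=
    isStrict_of_epi (Abelian.factorThruImage g) (isAdic_isStrict hY.1)
  have hIA := isARAdic_of_strict_sub hY' (Abelian.image.ι g) hI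
  have hK : IsMLAR (kernel g) :=
    Groth.Agent.S3156.result J (hJ_of_noeth J) S₁ hS₁ (termKilled_of_mono (kernel.ι g) hY.1.1)
      hY.1.1 hIA.1 (isMLAR_iff.2 ⟨0, fun n m h T x => by
        have := isAdic_epi hY.1 (show n ≤ m by omega)
        exact surjective_up_to_refinements_of_epi _ _⟩) hIA
  obtain ⟨r, K', ι, _, hK', hι, -⟩ := exists_strict_sub hK
  obtain ⟨-, Z, u, hZ, hu⟩ := isARAdic_of_strict_sub hY (ι ≫ kernel.ι g) hK'
  exact ⟨⟨⟨termKilled_of_mono (kernel.ι g) hY.1.1, Z, u ≫ ι, hZ, isARIso_comp hu hι⟩,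
    noeth_of_mono (kernel.ι g) hY.2⟩,
    Groth.Agent.S3152.result J (hJ_of_noeth J) S₂ hS₂ hI hY'.1,
    fun n => have := epi_app (cokernel.π g) n; noeth_of_epi ((cokernel.π g).app (op n)) (hY'.2 n)⟩

theorem kernel_cokernel_arAdic {X X' : PS C} (f : X ⟶ X') (hX : IsARAdicNoeth J X)
    (hX' : IsARAdicNoeth J X') :
    IsARAdicNoeth J (kernel f) ∧ IsARAdicNoeth J (cokernel f) := by
  obtain ⟨⟨hk, Y, a, hY, ha⟩, hXn⟩ := hX
  obtain ⟨⟨hk', Y', b, hY', hb⟩, hXn'⟩ := hX'
  obtain ⟨g, hg, -⟩ := existsUnique_lift hY hb hY'.1 (a ≫ f)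
  obtain ⟨⟨⟨-, Z, u, hZ, hu⟩, -⟩, hC⟩ :=
    kernel_cokernel_adic g ⟨hY, noeth_of_arIso hY ha hXn⟩ ⟨hY', noeth_of_arIso hY' hb hXn'⟩
  refine ⟨⟨⟨termKilled_of_mono (kernel.ι f) hk, Z, u ≫ kernel.map g f a b hg, hZ, isARIso_comp hu (isARIso_kernel_map g f a b hg ha hb)⟩,
      noeth_of_mono (kernel.ι f) hXn⟩,
    ⟨⟨termKilled_of_epi (cokernel.π f) hk', cokernel g, cokernel.map g f a b hg, hC.1,
      isARIso_cokernel_map g f a b hg ha hb⟩,
      fun n => have := epi_app (cokernel.π f) n; noeth_of_epi ((cokernel.π f).app (op n)) (hXn' n)⟩⟩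

end Groth.Agent.AR
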